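import Cfsg.Agent.Lib.Small.SylowHom.Eigen

/-!
The eigenspaces of the elements of the Weyl groups of D4, E6 and E7 which the degree count does not
bound: products of cyclotomic polynomials that no such element has.
-/

set_option autoImplicit false
set_option linter.unusedSectionVars false

namespace Cfsg.Agent.Small.SylowHom

open Polynomial Matrix

variable {n : Type*} [Fintype n] [DecidableEq n]

theorem aeval_radical (M : Matrix n n ℤ) {N k : ℕ} (hN : 0 < N) (hM : M ^ N = 1) {f : ℤ[X]}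
    (hf : M.charpoly ∣ f ^ k) : aeval M f = 0 := by
  let φ := (Int.castRingHom ℚ).mapMatrix (m := n)
  set A : Matrix n n ℚ := M.map (Int.castRingHom ℚ) with hA
  have hAN : A ^ N = 1 := by
    have := congrArg φ hM
    rwa [map_pow, map_one] at this
  have h1 : minpoly ℚ A ∣ X ^ N - 1 := minpoly.dvd ℚ A (by simp [hAN])
  have hsq : Squarefree (minpoly ℚ A) :=
    ((X_pow_sub_one_separable_iff (F := ℚ)).2 (by exact_mod_cast hN.ne')).squarefree.squarefree_of_dvd h1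
  have h2 : minpoly ℚ A ∣ (f.map (Int.castRingHom ℚ)) ^ k := by
    refine (Matrix.minpoly_dvd_charpoly A).trans ?_
    rw [hA, Matrix.charpoly_map, ← Polynomial.map_pow]
    exact Polynomial.map_dvd _ hf
  have h3 : aeval A (f.map (Int.castRingHom ℚ)) = 0 := by
    obtain ⟨c, hc⟩ := hsq.isRadical k _ h2
    rw [hc, map_mul, minpoly.aeval, zero_mul]
  have h4 : φ (aeval M f) = 0 := by
    rw [← h3, hA, show aeval M f = f.eval₂ (algebraMap ℤ _) M from rfl, Polynomial.hom_eval₂, aeval_def, eval₂_map]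
    congr 1
    exact Subsingleton.elim _ _
  exact Matrix.map_injective Int.cast_injective (h4.trans (map_zero φ).symm)

theorem dvd_eval_one (M : Matrix n n ℤ) {p : ℕ} [Fact p.Prime] (e : n → ℤ) (i : n) (hi : ¬ (p : ℤ) ∣ e i)
    (hfix : ∀ j, (p : ℤ) ∣ (M *ᵥ e) j - e j) : (p : ℤ) ∣ M.charpoly.eval 1 := by
  rw [← ZMod.intCast_zmod_eq_zero_iff_dvd, Matrix.eval_charpoly, map_one]
  have h : (Int.castRingHom (ZMod p)) (((1 : Matrix n n ℤ) - M).det) =
      ((Int.castRingHom (ZMod p)).mapMatrix ((1 : Matrix n n ℤ) - M)).det := RingHom.map_det _ _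
  simp only [eq_intCast] at h
  rw [h, ← Matrix.exists_mulVec_eq_zero_iff]
  refine ⟨fun j => (e j : ZMod p), fun h0 => hi ?_, ?_⟩
  · rw [← ZMod.intCast_zmod_eq_zero_iff_dvd]; exact congrFun h0 i
  · funext j
    have h1 := (ZMod.intCast_zmod_eq_zero_iff_dvd _ p).2 (hfix j)
    have h2 : ((((1 : Matrix n n ℤ) - M) *ᵥ e) j : ZMod p) = 0 := by
      rw [Matrix.sub_mulVec]
      simp only [Pi.sub_apply, Matrix.one_mulVec]
      push_cast at h1 ⊢
      linear_combination -h1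
    refine Eq.trans ?_ h2
    exact (RingHom.map_mulVec (Int.castRingHom (ZMod p)) ((1 : Matrix n n ℤ) - M) e j).symm

theorem rank_one (R : Matrix n n ℤ) (h2 : R * R = 2 • R) (ht : R.trace = 2) :
    ∀ i j k l, R i j * R k l = R i l * R k j := by
  let P : Matrix n n ℚ := (2 : ℚ)⁻¹ • R.map (Int.castRingHom ℚ)
  let f := Matrix.toLin' P
  have hRR : R.map (Int.castRingHom ℚ) * R.map (Int.castRingHom ℚ) = (2 : ℚ) • R.map (Int.castRingHom ℚ) := by
    rw [← Matrix.map_mul, h2, two_nsmul, two_smul]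
    ext i j
    simp
  have hP : P * P = P := by
    simp only [P, Matrix.smul_mul, Matrix.mul_smul, hRR, smul_smul]
    norm_num
  have hproj : LinearMap.IsProj (LinearMap.range f) f := by
    refine ⟨fun x => LinearMap.mem_range_self f x, ?_⟩
    rintro x ⟨y, rfl⟩
    show f (f y) = f y
    rw [← Module.End.mul_apply]
    congr 1
    show Matrix.toLin' P * Matrix.toLin' P = Matrix.toLin' P
    rw [Module.End.mul_eq_comp, ← Matrix.toLin'_mul, hP]
  have hrk : Module.finrank ℚ (LinearMap.range f) = 1 := by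
    have h := hproj.trace
    rw [show LinearMap.trace ℚ (n → ℚ) f = P.trace from Matrix.trace_toLin'_eq P] at h
    have : P.trace = 1 := by
      simp only [P, Matrix.trace_smul]
      rw [show (R.map (Int.castRingHom ℚ)).trace = ((R.trace : ℤ) : ℚ) by simp [Matrix.trace], ht]
      norm_num
    rw [this] at h
    exact_mod_cast h.symm
  obtain ⟨⟨x, hx⟩, -, hspan⟩ := finrank_eq_one_iff'.1 hrk
  have hcol : ∀ j, ∃ c : ℚ, ∀ i, P i j = c * x i := by
    intro j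
    obtain ⟨c, hc⟩ := hspan ⟨f (Pi.single j 1), LinearMap.mem_range_self f _⟩
    refine ⟨c, fun i => ?_⟩
    have := congrFun (congrArg Subtype.val hc) i
    simpa [f, Matrix.toLin'_apply, Matrix.mulVec_single_one] using this.symm
  choose c hc using hcol
  intro i j k l
  have h : P i j * P k l = P i l * P k j := by rw [hc, hc, hc, hc]; ring
  simp only [P, Matrix.smul_apply, Matrix.map_apply, smul_eq_mul, eq_intCast] at h
  have h' : ((R i j * R k l : ℤ) : ℚ) = ((R i l * R k j : ℤ) : ℚ) := by push_cast; linarith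
  exact_mod_cast h'

theorem exists_primitive (S : Matrix n n ℤ) (hS : S.IsSymm) (hc : ∀ i j k l, S i j * S k l = S i l * S k j)
    (hne : S ≠ 0) : ∃ (m : ℤ) (v a : n → ℤ), ∑ i, a i * v i = 1 ∧ ∀ j k, S j k = m * (v j * v k) := by
  obtain ⟨i, hi⟩ : ∃ i, S i i ≠ 0 := by
    by_contra h
    push Not at h
    refine hne (Matrix.ext fun j k => ?_)
    have := hc j j k k
    rw [h, h, zero_mul, hS.apply j k] at this
    simpa using (mul_self_eq_zero.1 this.symm)
  obtain ⟨v, hv, hv1⟩ := Finset.extract_gcd (fun j => S i j) (s := Finset.univ) ⟨i, Finset.mem_univ i⟩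
  set G := Finset.univ.gcd fun j => S i j with hG
  obtain ⟨a, ha⟩ : ∃ a : n → ℤ, ∑ j, a j * v j = 1 := by
    obtain ⟨a, ha⟩ := Finset.gcd_eq_sum_mul (s := Finset.univ) v
    rw [hv1] at ha
    exact ⟨a, by rw [ha]; exact Finset.sum_congr rfl fun j _ => mul_comm _ _⟩
  have hG0 : G ≠ 0 := fun h => hi (by rw [hv i (Finset.mem_univ i), h, zero_mul])
  have key : ∀ j k, v i * S j k = G * (v j * v k) := fun j k => by
    refine mul_left_cancel₀ hG0 ?_
    have := hc i i j k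
    rw [hS.apply i j, hv i (Finset.mem_univ i), hv k (Finset.mem_univ k), hv j (Finset.mem_univ j)] at this
    linear_combination this
  set m := ∑ j, ∑ k, a j * a k * S j k
  have hm : v i * m = G := by
    calc v i * m = ∑ j, ∑ k, a j * a k * (v i * S j k) := by
          simp only [m, Finset.mul_sum]
          exact Finset.sum_congr rfl fun j _ => Finset.sum_congr rfl fun k _ => by ring
      _ = G * ((∑ j, a j * v j) * ∑ k, a k * v k) := by
          rw [Finset.sum_mul_sum]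
          simp only [Finset.mul_sum, key]
          exact Finset.sum_congr rfl fun j _ => Finset.sum_congr rfl fun k _ => by ring
      _ = G := by rw [ha]; ring
  refine ⟨m, v, a, ha, fun j k => mul_left_cancel₀ (a := v i) ?_ ?_⟩
  · intro h; exact hi (by
      have := hv i (Finset.mem_univ i)
      rw [h, mul_zero] at this; exact this)
  · rw [key, ← hm]; ring

theorem charpoly_facts {s : Multiset ℕ} {d k l : ℕ} (hs : ∀ e ∈ s, 0 < e) (hsum : (s.map Nat.totient).sum = l)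
    (hk : k ≤ s.count d) : ∃ t : Multiset ℕ, s = Multiset.replicate k d + t ∧ (∀ e ∈ t, 0 < e) ∧
      k * d.totient + (t.map Nat.totient).sum = l := by
  obtain ⟨t, ht⟩ := Multiset.le_iff_exists_add.1 (Multiset.le_count_iff_replicate_le.1 hk)
  refine ⟨t, ht, fun e he => hs e (ht ▸ Multiset.mem_add.2 (Or.inr he)), ?_⟩
  rw [← hsum, ht, Multiset.map_add, Multiset.sum_add, Multiset.map_replicate, Multiset.sum_replicate, smul_eq_mul]

theorem eq_zero_of_totient {t : Multiset ℕ} (ht : ∀ e ∈ t, 0 < e) (h : (t.map Nat.totient).sum = 0) : t = 0 := by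
  refine Multiset.eq_zero_of_forall_notMem fun e he => ?_
  have h1 := Multiset.sum_eq_zero_iff.1 h _ (Multiset.mem_map_of_mem _ he)
  exact (Nat.totient_pos.2 (ht e he)).ne' h1

theorem eq_singleton_of_totient {t : Multiset ℕ} (ht : ∀ e ∈ t, 0 < e) (h : (t.map Nat.totient).sum = 1) :
    t = {1} ∨ t = {2} := by
  induction t using Multiset.induction_on with
  | empty => simp at h
  | cons e t _ =>
    rw [Multiset.map_cons, Multiset.sum_cons] at h
    have h1 := Nat.totient_pos.2 (ht e (Multiset.mem_cons_self _ _))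
    have h0 := eq_zero_of_totient (fun x hx => ht x (Multiset.mem_cons_of_mem hx)) (by omega)
    subst h0
    rcases Nat.totient_eq_one_iff.1 (by omega : e.totient = 1) with rfl | rfl <;> simp

/-- Cartan matrix of E6. -/
def cE6 : Matrix (Fin 6) (Fin 6) ℤ := !![2, 0, -1, 0, 0, 0; 0, 2, 0, -1, 0, 0; -1, 0, 2, -1, 0, 0;
  0, -1, -1, 2, -1, 0; 0, 0, 0, -1, 2, -1; 0, 0, 0, 0, -1, 2]

/-- Its adjugate. -/
def aE6 : Matrix (Fin 6) (Fin 6) ℤ := !![4, 3, 5, 6, 4, 2; 3, 6, 6, 9, 6, 3; 5, 6, 10, 12, 8, 4;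
  6, 9, 12, 18, 12, 6; 4, 6, 8, 12, 10, 5; 2, 3, 4, 6, 5, 4]

/-- Its kernel modulo 3. -/
def eE6 : Fin 6 → ℤ := ![1, 0, -1, 0, 1, -1]

/-- Cartan matrix of E7. -/
def cE7 : Matrix (Fin 7) (Fin 7) ℤ := !![2, 0, -1, 0, 0, 0, 0; 0, 2, 0, -1, 0, 0, 0; -1, 0, 2, -1, 0, 0, 0;
  0, -1, -1, 2, -1, 0, 0; 0, 0, 0, -1, 2, -1, 0; 0, 0, 0, 0, -1, 2, -1; 0, 0, 0, 0, 0, -1, 2]

/-- Its adjugate. -/
def aE7 : Matrix (Fin 7) (Fin 7) ℤ := !![4, 4, 6, 8, 6, 4, 2; 4, 7, 8, 12, 9, 6, 3; 6, 8, 12, 16, 12, 8, 4;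
  8, 12, 16, 24, 18, 12, 6; 6, 9, 12, 18, 15, 10, 5; 4, 6, 8, 12, 10, 8, 4; 2, 3, 4, 6, 5, 4, 3]

/-- Cartan matrix of D4. -/
def cD4 : Matrix (Fin 4) (Fin 4) ℤ := !![2, -1, 0, 0; -1, 2, -1, -1; 0, -1, 2, 0; 0, -1, 0, 2]

/-- A kernel vector modulo 2. -/
def eD4 : Fin 4 → ℤ := ![1, 0, 1, 0]

theorem d4_bound {s : Multiset ℕ} (M : Matrix (Fin 4) (Fin 4) ℤ) (hfix : ∀ j, (2 : ℤ) ∣ (M *ᵥ eD4) j - eD4 j)
    (hs : ∀ e ∈ s, 0 < e) (hse : M.charpoly = (s.map fun e => cyclotomic e ℤ).prod)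
    (hsum : (s.map Nat.totient).sum = 4) {d : ℕ} (hd : d = 3 ∨ d = 6) : s.count d ≤ 1 := by
  by_contra hc
  obtain ⟨t, rfl, ht, hst⟩ := charpoly_facts hs hsum (show 2 ≤ s.count d by omega)
  have hd2 : d.totient = 2 := by rcases hd with rfl | rfl <;> decide
  rw [eq_zero_of_totient ht (by rw [hd2] at hst; omega), add_zero, Multiset.map_replicate, Multiset.prod_replicate] at hse
  haveI : Fact (Nat.Prime 2) := ⟨Nat.prime_two⟩
  have h := dvd_eval_one (p := 2) M eD4 0 (by decide) hfix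
  rw [hse] at h
  rcases hd with rfl | rfl <;> simp [cyclotomic_three, cyclotomic_six] at h


theorem pos_six (w : Fin 6 → ℤ) (hw : w ≠ 0) : 0 < w ⬝ᵥ (cE6 *ᵥ w) := by
  by_contra h
  push Not at h
  have key : 3 * (2 * w 0 - w 2) ^ 2 + (3 * w 2 - 2 * w 3) ^ 2 + 3 * (2 * w 5 - w 4) ^ 2 + (3 * w 4 - 2 * w 3) ^ 2 +
      3 * (2 * w 1 - w 3) ^ 2 + w 3 ^ 2 = 6 * (w ⬝ᵥ (cE6 *ᵥ w)) := by
    simp [cE6, dotProduct, Matrix.mulVec, Fin.sum_univ_six]; ring
  have n1 := sq_nonneg (2 * w 0 - w 2)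
  have n2 := sq_nonneg (3 * w 2 - 2 * w 3)
  have n3 := sq_nonneg (2 * w 5 - w 4)
  have n4 := sq_nonneg (3 * w 4 - 2 * w 3)
  have n5 := sq_nonneg (2 * w 1 - w 3)
  have n6 := sq_nonneg (w 3)
  have z : ∀ x : ℤ, x ^ 2 ≤ 0 → x = 0 := fun x hx => sq_eq_zero_iff.1 (le_antisymm hx (sq_nonneg x))
  have e1 := z (2 * w 0 - w 2) (by linarith)
  have e2 := z (3 * w 2 - 2 * w 3) (by linarith)
  have e3 := z (2 * w 5 - w 4) (by linarith)
  have e4 := z (3 * w 4 - 2 * w 3) (by linarith)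
  have e5 := z (2 * w 1 - w 3) (by linarith)
  have e6 := z (w 3) (by linarith)
  apply hw
  funext i; fin_cases i <;> simp <;> omega

theorem pos_seven (w : Fin 7 → ℤ) (hw : w ≠ 0) : 0 < w ⬝ᵥ (cE7 *ᵥ w) := by
  by_contra h
  push Not at h
  have key : 6 * (2 * w 0 - w 2) ^ 2 + 2 * (3 * w 2 - 2 * w 3) ^ 2 + 6 * (2 * w 1 - w 3) ^ 2 + 6 * (2 * w 6 - w 5) ^ 2 +
      2 * (3 * w 5 - 2 * w 4) ^ 2 + (4 * w 4 - 3 * w 3) ^ 2 + w 3 ^ 2 = 12 * (w ⬝ᵥ (cE7 *ᵥ w)) := by
    simp [cE7, dotProduct, Matrix.mulVec, Fin.sum_univ_seven]; ring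
  have n1 := sq_nonneg (2 * w 0 - w 2)
  have n2 := sq_nonneg (3 * w 2 - 2 * w 3)
  have n3 := sq_nonneg (2 * w 1 - w 3)
  have n4 := sq_nonneg (2 * w 6 - w 5)
  have n5 := sq_nonneg (3 * w 5 - 2 * w 4)
  have n6 := sq_nonneg (4 * w 4 - 3 * w 3)
  have n7 := sq_nonneg (w 3)
  have z : ∀ x : ℤ, x ^ 2 ≤ 0 → x = 0 := fun x hx => sq_eq_zero_iff.1 (le_antisymm hx (sq_nonneg x))
  have e1 := z (2 * w 0 - w 2) (by linarith)
  have e2 := z (3 * w 2 - 2 * w 3) (by linarith)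
  have e3 := z (2 * w 1 - w 3) (by linarith)
  have e4 := z (2 * w 6 - w 5) (by linarith)
  have e5 := z (3 * w 5 - 2 * w 4) (by linarith)
  have e6 := z (4 * w 4 - 3 * w 3) (by linarith)
  have e7 := z (w 3) (by linarith)
  apply hw
  funext i; fin_cases i <;> simp <;> omega

theorem quad_six (v : Fin 6 → ℤ) : ∃ k : ℤ, v ⬝ᵥ (aE6 *ᵥ v) = (v ⬝ᵥ eE6) ^ 2 + 3 * k := by
  refine ⟨v 0 * v 0 + 2 * v 1 * v 1 + 3 * v 2 * v 2 + 6 * v 3 * v 3 + 3 * v 4 * v 4 + v 5 * v 5 +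
    2 * v 0 * v 1 + 4 * v 0 * v 2 + 4 * v 0 * v 3 + 2 * v 0 * v 4 + 2 * v 0 * v 5 + 4 * v 1 * v 2 + 6 * v 1 * v 3 +
    4 * v 1 * v 4 + 2 * v 1 * v 5 + 8 * v 2 * v 3 + 6 * v 2 * v 4 + 2 * v 2 * v 5 + 8 * v 3 * v 4 + 4 * v 3 * v 5 +
    4 * v 4 * v 5, ?_⟩
  simp [aE6, eE6, dotProduct, Matrix.mulVec, Fin.sum_univ_six]
  ring

theorem even_six (v : Fin 6 → ℤ) : (2 : ℤ) ∣ v ⬝ᵥ (aE6 *ᵥ v) := by
  refine ⟨2 * v 0 * v 0 + 3 * v 1 * v 1 + 5 * v 2 * v 2 + 9 * v 3 * v 3 + 5 * v 4 * v 4 + 2 * v 5 * v 5 +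
    3 * v 0 * v 1 + 5 * v 0 * v 2 + 6 * v 0 * v 3 + 4 * v 0 * v 4 + 2 * v 0 * v 5 + 6 * v 1 * v 2 + 9 * v 1 * v 3 +
    6 * v 1 * v 4 + 3 * v 1 * v 5 + 12 * v 2 * v 3 + 8 * v 2 * v 4 + 4 * v 2 * v 5 + 12 * v 3 * v 4 + 6 * v 3 * v 5 +
    5 * v 4 * v 5, ?_⟩
  simp [aE6, dotProduct, Matrix.mulVec, Fin.sum_univ_six]
  ring

theorem quad_seven (v : Fin 7 → ℤ) : (v ⬝ᵥ (aE7 *ᵥ v)) % 4 ≠ 1 ∧ (v ⬝ᵥ (aE7 *ᵥ v)) % 4 ≠ 2 := by
  obtain ⟨k, hk⟩ : ∃ k : ℤ, v ⬝ᵥ (aE7 *ᵥ v) = 3 * (v 1 + v 4 + v 6) ^ 2 + 4 * k := by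
    refine ⟨v 0 * v 0 + v 1 * v 1 + 3 * v 2 * v 2 + 6 * v 3 * v 3 + 3 * v 4 * v 4 + 2 * v 5 * v 5 +
      2 * v 0 * v 1 + 3 * v 0 * v 2 + 4 * v 0 * v 3 + 3 * v 0 * v 4 + 2 * v 0 * v 5 + v 0 * v 6 + 4 * v 1 * v 2 +
      6 * v 1 * v 3 + 3 * v 1 * v 4 + 3 * v 1 * v 5 + 8 * v 2 * v 3 + 6 * v 2 * v 4 + 4 * v 2 * v 5 + 2 * v 2 * v 6 +
      9 * v 3 * v 4 + 6 * v 3 * v 5 + 3 * v 3 * v 6 + 5 * v 4 * v 5 + v 4 * v 6 + 2 * v 5 * v 6, ?_⟩
    simp [aE7, dotProduct, Matrix.mulVec, Fin.sum_univ_seven]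
    ring
  rw [hk]
  rcases Int.even_or_odd' (v 1 + v 4 + v 6) with ⟨j, hj | hj⟩ <;> rw [hj]
  · rw [show 3 * (2 * j) ^ 2 + 4 * k = 4 * (3 * j ^ 2 + k) by ring]; omega
  · rw [show 3 * (2 * j + 1) ^ 2 + 4 * k = 4 * (3 * j ^ 2 + 3 * j + k) + 3 by ring]; omega

theorem adj_six : aE6 * cE6 = 3 • (1 : Matrix (Fin 6) (Fin 6) ℤ) ∧ cE6 * aE6 = 3 • (1 : Matrix (Fin 6) (Fin 6) ℤ) ∧
    cE6ᵀ = cE6 ∧ aE6ᵀ = aE6 := by decide +kernel

theorem adj_seven : aE7 * cE7 = 2 • (1 : Matrix (Fin 7) (Fin 7) ℤ) ∧ cE7 * aE7 = 2 • (1 : Matrix (Fin 7) (Fin 7) ℤ) ∧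
    cE7ᵀ = cE7 ∧ aE7ᵀ = aE7 := by decide +kernel

theorem trace_rank_one (A : Matrix n n ℤ) (v : n → ℤ) (m : ℤ) :
    (A * Matrix.of fun j k => m * (v j * v k)).trace = m * (v ⬝ᵥ (A *ᵥ v)) := by
  simp only [Matrix.trace, Matrix.diag_apply, Matrix.mul_apply, Matrix.of_apply, dotProduct, Matrix.mulVec, Finset.mul_sum]
  exact Finset.sum_congr rfl fun i _ => Finset.sum_congr rfl fun j _ => by ring

theorem e6_two (M : Matrix (Fin 6) (Fin 6) ℤ) {N : ℕ} (hN : 0 < N) (hM : M ^ N = 1)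
    (hfix : ∀ j, (3 : ℤ) ∣ (M *ᵥ eE6) j - eE6 j) (hC : Mᵀ * cE6 * M = cE6)
    (hse : M.charpoly = (X + 1) ^ 5 * (X - 1)) : False := by
  have h0 := aeval_radical M (k := 5) hN hM (f := (X + 1) * (X - 1))
    (by rw [hse, mul_pow]; exact mul_dvd_mul_left _ (dvd_pow_self _ (by norm_num)))
  simp only [map_mul, map_add, map_sub, aeval_X, map_one] at h0
  have hM2 : M * M = 1 := by
    rw [← sub_eq_zero, ← h0]; noncomm_ring
  obtain ⟨hac, hca, hct, hat⟩ := adj_six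
  set R := M + 1 with hR
  have hRR : R * R = 2 • R := by rw [hR]; noncomm_ring [hM2]
  have htr : R.trace = 2 := by
    have h1 : M.trace = -4 := by
      rw [Matrix.trace_eq_neg_charpoly_nextCoeff, hse, show (X + 1 : ℤ[X]) = X + C 1 by simp,
        show (X - 1 : ℤ[X]) = X - C 1 by simp, Monic.nextCoeff_mul ((monic_X_add_C (1 : ℤ)).pow 5) (monic_X_sub_C (1 : ℤ)),
        (monic_X_add_C (1 : ℤ)).nextCoeff_pow, nextCoeff_X_add_C, nextCoeff_X_sub_C]
      norm_num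
    rw [hR, Matrix.trace_add, Matrix.trace_one, h1]; norm_num
  have hcr := rank_one R hRR htr
  set S := cE6 * R with hS
  have hCM : Mᵀ * cE6 = cE6 * M := by
    calc Mᵀ * cE6 = Mᵀ * cE6 * (M * M) := by rw [hM2, mul_one]
      _ = _ := by rw [← Matrix.mul_assoc (Mᵀ * cE6), hC]
  have hsym : S.IsSymm := by
    show (cE6 * R)ᵀ = cE6 * R
    rw [Matrix.transpose_mul, hct, hR, Matrix.transpose_add, Matrix.transpose_one, add_mul, mul_add, one_mul, mul_one, hCM]
  have haS : aE6 * S = 3 • R := by rw [hS, ← Matrix.mul_assoc, hac, Matrix.smul_mul, one_mul]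
  have hSne : S ≠ 0 := fun h => by
    have := congrArg Matrix.trace haS
    rw [h, Matrix.mul_zero, Matrix.trace_zero, Matrix.trace_smul, htr] at this
    norm_num at this
  have hScr : ∀ i j k l, S i j * S k l = S i l * S k j := fun i j k l => by
    simp only [hS, Matrix.mul_apply, Finset.sum_mul_sum]
    exact Finset.sum_congr rfl fun x _ => Finset.sum_congr rfl fun y _ => by
      linear_combination (cE6 i x * cE6 k y) * hcr x j y l
  obtain ⟨m, v, a, ha, hv⟩ := exists_primitive S hsym hScr hSne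
  -- the image of R is spanned by the kernel modulo three
  have h3S : ∀ i j, (3 : ℤ) ∣ S i j := by
    intro i j
    have hRe : ∀ x, (3 : ℤ) ∣ (R *ᵥ eE6) x - 2 * eE6 x := fun x => by
      have e : (R *ᵥ eE6) x - 2 * eE6 x = (M *ᵥ eE6) x - eE6 x := by
        rw [hR, Matrix.add_mulVec, Matrix.one_mulVec, Pi.add_apply]; ring
      rw [e]; exact hfix x
    have hcol : ∀ x, (3 : ℤ) ∣ 2 * (eE6 x * R 0 j) - 2 * R x j := fun x => by
      have e : (R *ᵥ eE6) x * R 0 j = (R *ᵥ eE6) 0 * R x j := by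
        simp only [Matrix.mulVec, dotProduct, Finset.sum_mul]
        exact Finset.sum_congr rfl fun y _ => by linear_combination (eE6 y) * hcr x y 0 j
      obtain ⟨c, hc⟩ := hRe x
      obtain ⟨c0, hc0⟩ := hRe 0
      have e0 : eE6 0 = 1 := rfl
      refine ⟨c0 * R x j - c * R 0 j, ?_⟩
      rw [e0] at hc0
      linear_combination e - R 0 j * hc + R x j * hc0
    have hCe : ∀ x, (3 : ℤ) ∣ (cE6 *ᵥ eE6) x := by decide +kernel
    have hsum : (3 : ℤ) ∣ 2 * R 0 j * (cE6 *ᵥ eE6) i - 2 * S i j := by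
      rw [hS, Matrix.mul_apply, Matrix.mulVec, dotProduct, Finset.mul_sum, Finset.mul_sum, ← Finset.sum_sub_distrib]
      exact Finset.dvd_sum fun x _ => by
        rw [show 2 * R 0 j * (cE6 i x * eE6 x) - 2 * (cE6 i x * R x j) =
          cE6 i x * (2 * (eE6 x * R 0 j) - 2 * R x j) by ring]
        exact (hcol x).mul_left _
    have h2 := (dvd_sub_right ((hCe i).mul_left (2 * R 0 j))).1 hsum
    exact ((show IsCoprime (3 : ℤ) 2 from ⟨1, -1, by norm_num⟩).dvd_of_dvd_mul_left h2)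
  obtain ⟨m', rfl⟩ : (3 : ℤ) ∣ m := by
    have e : m = ∑ j, ∑ k, a j * a k * S j k := by
      calc m = m * ((∑ j, a j * v j) * ∑ k, a k * v k) := by rw [ha]; ring
        _ = _ := by
          rw [Finset.sum_mul_sum]
          simp only [Finset.mul_sum, hv]
          exact Finset.sum_congr rfl fun j _ => Finset.sum_congr rfl fun k _ => by ring
    rw [e]
    exact Finset.dvd_sum fun j _ => Finset.dvd_sum fun k _ => (h3S j k).mul_left _
  have hQ : m' * (v ⬝ᵥ (aE6 *ᵥ v)) = 2 := by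
    have h := congrArg Matrix.trace haS
    rw [show S = Matrix.of fun j k => 3 * m' * (v j * v k) from Matrix.ext hv, trace_rank_one, Matrix.trace_smul, htr] at h
    norm_num at h
    linarith [h]
  have hpos : 0 < v ⬝ᵥ (aE6 *ᵥ v) := by
    have hw : aE6 *ᵥ v ≠ 0 := fun h => by rw [h, dotProduct_zero, mul_zero] at hQ; norm_num at hQ
    have h := pos_six _ hw
    rw [Matrix.mulVec_mulVec, hca, Matrix.smul_mulVec, Matrix.one_mulVec, dotProduct_smul, dotProduct_comm] at h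
    simpa using h
  obtain ⟨b, hb⟩ := even_six v
  obtain ⟨k, hk⟩ := quad_six v
  have hb1 : v ⬝ᵥ (aE6 *ᵥ v) = 2 := by
    have : v ⬝ᵥ (aE6 *ᵥ v) ∣ 2 := Dvd.intro_left _ hQ
    have := Int.le_of_dvd (by norm_num) this
    omega
  rw [hb1] at hk
  have h4 : (((v ⬝ᵥ eE6) : ℤ) : ZMod 3) ^ 2 = 2 := by
    have := congrArg (fun z : ℤ => (z : ZMod 3)) hk
    push_cast at this
    rw [show (3 : ZMod 3) = 0 from rfl, zero_mul, add_zero] at this
    exact this.symm
  exact absurd h4 ((by decide : ∀ z : ZMod 3, z ^ 2 ≠ 2) _)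

theorem e6_bound {s : Multiset ℕ} (M : Matrix (Fin 6) (Fin 6) ℤ) {N : ℕ} (hN : 0 < N) (hM : M ^ N = 1)
    (hfix : ∀ j, (3 : ℤ) ∣ (M *ᵥ eE6) j - eE6 j) (hC : Mᵀ * cE6 * M = cE6)
    (hs : ∀ e ∈ s, 0 < e) (hse : M.charpoly = (s.map fun e => cyclotomic e ℤ).prod)
    (hsum : (s.map Nat.totient).sum = 6) :
    s.count 2 ≤ 4 ∧ s.count 4 ≤ 2 ∧ s.count 6 ≤ 2 := by
  haveI : Fact (Nat.Prime 3) := ⟨Nat.prime_three⟩
  have h1 := dvd_eval_one (p := 3) M eE6 0 (by decide) hfix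
  refine ⟨?_, ?_, ?_⟩
  · by_contra hc
    obtain ⟨t, rfl, ht, hst⟩ := charpoly_facts hs hsum (show 5 ≤ s.count 2 by omega)
    rcases eq_singleton_of_totient ht (by rw [Nat.totient_two] at hst; omega) with rfl | rfl
    · refine e6_two M hN hM hfix hC ?_
      rw [hse]; simp [cyclotomic_two, cyclotomic_one]; ring
    · rw [hse] at h1; simp [cyclotomic_two] at h1
  · by_contra hc
    obtain ⟨t, rfl, ht, hst⟩ := charpoly_facts hs hsum (show 3 ≤ s.count 4 by omega)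
    rw [eq_zero_of_totient ht (by rw [show Nat.totient 4 = 2 by decide] at hst; omega), add_zero, Multiset.map_replicate,
      Multiset.prod_replicate] at hse
    rw [hse, eval_pow, show (4 : ℕ) = 2 ^ (1 + 1) from rfl, eval_one_cyclotomic_prime_pow] at h1
    norm_num at h1
  · by_contra hc
    obtain ⟨t, rfl, ht, hst⟩ := charpoly_facts hs hsum (show 3 ≤ s.count 6 by omega)
    rw [eq_zero_of_totient ht (by rw [show Nat.totient 6 = 2 by decide] at hst; omega), add_zero, Multiset.map_replicate,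
      Multiset.prod_replicate] at hse
    rw [hse] at h1; simp [cyclotomic_six] at h1

theorem e7_four (M : Matrix (Fin 7) (Fin 7) ℤ) {N : ℕ} (hN : 0 < N) (hM : M ^ N = 1)
    (hC : Mᵀ * cE7 * M = cE7) {ε : ℤ} (hε : ε * ε = 1) (hse : M.charpoly = (X ^ 2 + 1) ^ 3 * (X - C ε)) : False := by
  have h0 := aeval_radical M (k := 3) hN hM (f := (X ^ 2 + 1) * (X - C ε))
    (by rw [hse, mul_pow]; exact mul_dvd_mul_left _ (dvd_pow_self _ (by norm_num)))
  simp only [map_mul, map_add, map_sub, map_pow, aeval_X, map_one, aeval_C] at h0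
  set R := M * M + 1 with hR
  have hMR : R * M = ε • R := by
    have e : algebraMap ℤ (Matrix (Fin 7) (Fin 7) ℤ) ε = ε • 1 := Algebra.algebraMap_eq_smul_one ε
    rw [e, pow_two, ← hR, mul_sub, Matrix.mul_smul, mul_one, sub_eq_zero] at h0
    exact h0
  have hcm : Commute R M := by rw [hR]; exact ((Commute.refl M).mul_left (Commute.refl M)).add_left (Commute.one_left M)
  have hRMM : R * (M * M) = R := by
    rw [← Matrix.mul_assoc, hMR, Matrix.smul_mul, hMR, smul_smul, hε, one_smul]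
  have hRR : R * R = 2 • R := by
    calc R * R = R * (M * M) + R := by rw [hR, mul_add, mul_one]
      _ = 2 • R := by rw [hRMM, two_nsmul]
  have hM4 : M * M * (M * M) = 1 := by
    have : (M * M + 1) * (M * M) = M * M + 1 := hRMM
    rw [add_mul, one_mul, add_comm (M * M) 1] at this
    exact add_right_cancel this
  obtain ⟨hac, hca, hct, hat⟩ := adj_seven
  have hMT : Mᵀ * cE7 = cE7 * (M * M * M) := by
    calc Mᵀ * cE7 = Mᵀ * cE7 * (M * M * (M * M)) := by rw [hM4, mul_one]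
      _ = Mᵀ * cE7 * M * (M * M * M) := by simp only [Matrix.mul_assoc]
      _ = _ := by rw [hC]
  have hM3 : M + M * M * M = ε • R := by
    rw [← hMR, hR, add_mul, one_mul, add_comm]
  have htrM : M.trace = ε := by
    rw [Matrix.trace_eq_neg_charpoly_nextCoeff, hse, Monic.nextCoeff_mul ((monic_X_pow_add_C (1 : ℤ) two_ne_zero).pow 3 |> (by simpa using ·)) (monic_X_sub_C ε),
      nextCoeff_X_sub_C]
    rw [show ((X : ℤ[X]) ^ 2 + 1) = X ^ 2 + C 1 by simp, (monic_X_pow_add_C (1 : ℤ) two_ne_zero).nextCoeff_pow,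
      nextCoeff, natDegree_X_pow_add_C]
    simp [coeff_X_pow, coeff_C, coeff_one]
  have hinv : (M * M * M).trace = M.trace := by
    have e : 2 • (M * M * M) = aE7 * (Mᵀ * cE7) := by rw [hMT, ← Matrix.mul_assoc, hac, Matrix.smul_mul, one_mul]
    have h := congrArg Matrix.trace e
    rw [Matrix.trace_smul, Matrix.trace_mul_comm aE7, Matrix.mul_assoc Mᵀ cE7 aE7, hca, Matrix.mul_smul, mul_one, Matrix.trace_smul,
      Matrix.trace_transpose] at h
    simp only [nsmul_eq_mul] at h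
    push_cast at h
    linarith
  have htr : R.trace = 2 := by
    have h := congrArg Matrix.trace hM3
    rw [Matrix.trace_add, Matrix.trace_smul, hinv, htrM, smul_eq_mul] at h
    have : ε * (ε + ε) = ε * (ε * R.trace) := by rw [h]
    rw [← mul_assoc, hε, one_mul, mul_add, hε] at this
    linarith
  have hcr := rank_one R hRR htr
  set S := cE7 * R with hS
  have haS : aE7 * S = 2 • R := by rw [hS, ← Matrix.mul_assoc, hac, Matrix.smul_mul, one_mul]
  have hsumS : cE7 * M + (cE7 * M)ᵀ = ε • S := by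
    rw [Matrix.transpose_mul, hct, hMT, ← mul_add, hM3, hS, Matrix.mul_smul]
  have hsym : S.IsSymm := by
    have h := congrArg Matrix.transpose hsumS
    rw [Matrix.transpose_add, Matrix.transpose_transpose, Matrix.transpose_smul, add_comm, hsumS] at h
    have h2 := congrArg (fun A => ε • A) h
    simp only [smul_smul, hε, one_smul] at h2
    exact h2.symm
  have hSne : S ≠ 0 := fun h => by
    have := congrArg Matrix.trace haS
    rw [h, Matrix.mul_zero, Matrix.trace_zero, Matrix.trace_smul, htr] at this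
    norm_num at this
  have hScr : ∀ i j k l, S i j * S k l = S i l * S k j := fun i j k l => by
    simp only [hS, Matrix.mul_apply, Finset.sum_mul_sum]
    exact Finset.sum_congr rfl fun x _ => Finset.sum_congr rfl fun y _ => by
      linear_combination (cE7 i x * cE7 k y) * hcr x j y l
  obtain ⟨m, v, a, ha, hv⟩ := exists_primitive S hsym hScr hSne
  have hQ : m * (v ⬝ᵥ (aE7 *ᵥ v)) = 4 := by
    have h := congrArg Matrix.trace haS
    rw [show S = Matrix.of fun j k => m * (v j * v k) from Matrix.ext hv, trace_rank_one, Matrix.trace_smul, htr] at h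
    simpa using h
  have hpos : 0 < v ⬝ᵥ (aE7 *ᵥ v) := by
    have hw : aE7 *ᵥ v ≠ 0 := fun h => by rw [h, dotProduct_zero, mul_zero] at hQ; norm_num at hQ
    have h := pos_seven _ hw
    rw [Matrix.mulVec_mulVec, hca, Matrix.smul_mulVec, Matrix.one_mulVec, dotProduct_smul, dotProduct_comm] at h
    simpa using h
  have hle : v ⬝ᵥ (aE7 *ᵥ v) ≤ 4 := Int.le_of_dvd (by norm_num) (Dvd.intro_left _ hQ)
  obtain ⟨hq1, hq2⟩ := quad_seven v
  have hq : v ⬝ᵥ (aE7 *ᵥ v) = 3 ∨ v ⬝ᵥ (aE7 *ᵥ v) = 4 := by omega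
  rcases hq with hq | hq <;> rw [hq] at hQ
  · omega
  have hm : m = 1 := by omega
  subst hm
  have heven : ∀ i, (2 : ℤ) ∣ v i := fun i => by
    have h := congrFun (congrFun hsumS i) i
    rw [Matrix.add_apply, Matrix.transpose_apply, Matrix.smul_apply, hv, smul_eq_mul] at h
    have h2 : (2 : ℤ) ∣ v i * v i := ⟨ε * (cE7 * M) i i, by
      have := congrArg (fun z => ε * z) h
      simp only [← mul_assoc, hε] at this
      linear_combination -this⟩
    exact (Int.Prime.dvd_mul' Nat.prime_two h2).elim id id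
  have : (2 : ℤ) ∣ 1 := ha ▸ Finset.dvd_sum fun i _ => (heven i).mul_left (a i)
  norm_num at this

theorem e7_bound {s : Multiset ℕ} (M : Matrix (Fin 7) (Fin 7) ℤ) {N : ℕ} (hN : 0 < N) (hM : M ^ N = 1)
    (hC : Mᵀ * cE7 * M = cE7)
    (hs : ∀ e ∈ s, 0 < e) (hse : M.charpoly = (s.map fun e => cyclotomic e ℤ).prod)
    (hsum : (s.map Nat.totient).sum = 7) : s.count 4 ≤ 2 := by
  by_contra hc
  obtain ⟨t, rfl, ht, hst⟩ := charpoly_facts hs hsum (show 3 ≤ s.count 4 by omega)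
  have h4 : cyclotomic 4 ℤ = X ^ 2 + 1 := by
    rw [show (4 : ℕ) = 2 ^ (1 + 1) from rfl, cyclotomic_prime_pow_eq_geom_sum Nat.prime_two]
    simp [Finset.sum_range_succ, add_comm]
  rcases eq_singleton_of_totient ht (by rw [show Nat.totient 4 = 2 by decide] at hst; omega) with rfl | rfl
  · exact e7_four M hN hM hC (ε := 1) (by norm_num) (by rw [hse]; simp [h4, cyclotomic_one]; try ring)
  · exact e7_four M hN hM hC (ε := -1) (by norm_num) (by rw [hse]; simp [h4, cyclotomic_two]; try ring)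

end Cfsg.Agent.Small.SylowHom
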