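import Mathlib

/-!
The r-part of q^e - 1, and the recognition of homocyclic groups.
-/

set_option autoImplicit false
set_option linter.unusedSectionVars false

namespace Cfsg.Agent.Small.SylowHom

variable {r : ℕ} [Fact r.Prime] {q : ℕ}

theorem dvd_pred_pow (hq : 1 ≤ q) (e : ℕ) : r ∣ q ^ e - 1 ↔ orderOf (q : ZMod r) ∣ e := by
  rw [orderOf_dvd_iff_pow_eq_one, ← ZMod.natCast_eq_zero_iff, Nat.cast_sub (Nat.one_le_pow _ _ hq),
    Nat.cast_pow, Nat.cast_one, sub_eq_zero]

theorem order_pos (hr : ¬ r ∣ q) : 0 < orderOf (q : ZMod r) := by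
  have h0 : (q : ZMod r) ≠ 0 := fun h => hr ((ZMod.natCast_eq_zero_iff _ _).1 h)
  exact (isOfFinOrder_iff_pow_eq_one.2 ⟨r - 1, Nat.sub_pos_of_lt (Fact.out : r.Prime).one_lt,
    ZMod.pow_card_sub_one_eq_one h0⟩).orderOf_pos

theorem pred_pow_pos {e : ℕ} (hq : 2 ≤ q) (he : e ≠ 0) : 0 < q ^ e - 1 := by
  have : 2 ≤ q ^ e := le_trans hq (Nat.le_self_pow he q)
  omega

/-- Raising to a power prime to r keeps the r-part. -/
theorem val_pred_pow (hq : 2 ≤ q) (hr : ¬ r ∣ q) {e : ℕ} (he : ¬ r ∣ e) :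
    padicValNat r (q ^ e - 1) =
      if orderOf (q : ZMod r) ∣ e then padicValNat r (q ^ orderOf (q : ZMod r) - 1) else 0 := by
  set d := orderOf (q : ZMod r) with hd
  have hd0 : 0 < d := order_pos hr
  have he0 : e ≠ 0 := fun h => he (h ▸ dvd_zero r)
  split_ifs with h
  swap
  · exact padicValNat.eq_zero_of_not_dvd fun h' => h ((dvd_pred_pow (by omega) e).1 h')
  obtain ⟨k, rfl⟩ := h
  obtain ⟨c, hc⟩ : ∃ c, q ^ d = c + 1 := ⟨q ^ d - 1, by have := pred_pow_pos hq hd0.ne'; omega⟩
  have hfac : q ^ (d * k) - 1 = (q ^ d - 1) * ∑ i ∈ Finset.range k, (q ^ d) ^ i := by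
    rw [pow_mul, hc, Nat.add_sub_cancel]
    have h := geom_sum_mul_add c k
    rw [mul_comm] at h
    omega
  have hk : ¬ r ∣ ∑ i ∈ Finset.range k, (q ^ d) ^ i := by
    rw [← ZMod.natCast_eq_zero_iff]
    push_cast
    rw [pow_orderOf_eq_one (q : ZMod r)]
    simp only [one_pow, Finset.sum_const, Finset.card_range, nsmul_eq_mul, mul_one]
    exact fun h => he (dvd_mul_of_dvd_right ((ZMod.natCast_eq_zero_iff _ _).1 h) _)
  have hs : ∑ i ∈ Finset.range k, (q ^ d) ^ i ≠ 0 := fun h => hk (h ▸ dvd_zero r)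
  rw [hfac, padicValNat.mul (pred_pow_pos hq hd0.ne').ne' hs, padicValNat.eq_zero_of_not_dvd hk, add_zero]

theorem val_prod (hq : 2 ≤ q) (hr : ¬ r ∣ q) : ∀ ds : List ℕ, (∀ e ∈ ds, ¬ r ∣ e) →
    padicValNat r (ds.map fun e => q ^ e - 1).prod =
      (ds.filter fun e => orderOf (q : ZMod r) ∣ e).length * padicValNat r (q ^ orderOf (q : ZMod r) - 1) := by
  intro ds
  induction ds with
  | nil => simp
  | cons e ds ih =>
    intro h
    have h0 : (ds.map fun e => q ^ e - 1).prod ≠ 0 := by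
      refine List.prod_ne_zero fun h0 => ?_
      obtain ⟨x, hx, hx0⟩ := List.mem_map.1 h0
      have := pred_pow_pos hq (fun hz : x = 0 => h x (List.mem_cons_of_mem _ hx) (hz ▸ dvd_zero r))
      omega
    rw [List.map_cons, List.prod_cons, padicValNat.mul
      (pred_pow_pos hq fun hz : e = 0 => h e List.mem_cons_self (hz ▸ dvd_zero r)).ne' h0,
      ih fun x hx => h x (List.mem_cons_of_mem _ hx), val_pred_pow hq hr (h e List.mem_cons_self)]
    by_cases hd : orderOf (q : ZMod r) ∣ e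
    · rw [if_pos hd, List.filter_cons_of_pos (by simpa using hd), List.length_cons]; ring
    · rw [if_neg hd, List.filter_cons_of_neg (by simpa using hd), zero_add]

theorem val_cyclotomic (hq : 2 ≤ q) (hr : ¬ r ∣ q) :
    padicValNat r ((Polynomial.cyclotomic (orderOf (q : ZMod r)) ℤ).eval (q : ℤ)).natAbs =
      padicValNat r (q ^ orderOf (q : ZMod r) - 1) := by
  set d := orderOf (q : ZMod r) with hd
  have hd0 : 0 < d := order_pos hr
  have h := congrArg (fun f => (Polynomial.eval (q : ℤ) f).natAbs) (Polynomial.prod_cyclotomic_eq_X_pow_sub_one hd0 ℤ)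
  simp only [Polynomial.eval_prod, Polynomial.eval_sub, Polynomial.eval_pow, Polynomial.eval_X, Polynomial.eval_one] at h
  rw [← Nat.insert_self_properDivisors hd0.ne', Finset.prod_insert Nat.self_notMem_properDivisors, Int.natAbs_mul] at h
  have hnat : ((q : ℤ) ^ d - 1).natAbs = q ^ d - 1 := by
    have h1 : 1 ≤ q ^ d := Nat.one_le_pow _ _ (by omega)
    rw [show (q : ℤ) ^ d - 1 = ((q ^ d - 1 : ℕ) : ℤ) by push_cast [h1]; ring, Int.natAbs_natCast]
  rw [hnat] at h
  rw [← h]
  have hne := pred_pow_pos hq hd0.ne'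
  rw [← h] at hne
  rw [padicValNat.mul (Nat.pos_of_mul_pos_right hne).ne' (Nat.pos_of_mul_pos_left hne).ne']
  have hrest : ¬ r ∣ (∏ e ∈ d.properDivisors, (Polynomial.cyclotomic e ℤ).eval (q : ℤ)).natAbs := by
    rw [← Int.natCast_dvd_natCast, Int.dvd_natAbs]
    intro hdiv
    obtain ⟨e, he, hde⟩ := (Nat.prime_iff_prime_int.1 (Fact.out : r.Prime)).exists_mem_finset_dvd hdiv
    obtain ⟨hed, hlt⟩ := Nat.mem_properDivisors.1 he
    have h1 : (r : ℤ) ∣ ((q ^ e - 1 : ℕ) : ℤ) := by
      have h1 : 1 ≤ q ^ e := Nat.one_le_pow _ _ (by omega)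
      push_cast [h1]
      have := hde.trans (Polynomial.eval_dvd (x := (q : ℤ)) (Polynomial.cyclotomic.dvd_X_pow_sub_one e ℤ))
      simpa using this
    rw [Int.natCast_dvd_natCast, dvd_pred_pow (by omega), ← hd] at h1
    have := Nat.le_of_dvd (Nat.pos_of_dvd_of_pos hed hd0) h1
    omega
  rw [padicValNat.eq_zero_of_not_dvd hrest, add_zero]

/-- A group of exponent r^v, order r^(v a) and at most r^a solutions of x^r = 1 is homocyclic. -/
theorem homocyclic {P : Type*} [CommGroup P] [Finite P] {v a : ℕ} (hv : 0 < v) (hexp : ∀ x : P, x ^ r ^ v = 1)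
    (hcard : Nat.card P = r ^ (v * a)) (hr : Nat.card {x : P // x ^ r = 1} ≤ r ^ a) :
    Nonempty (P ≃* (Fin a → Multiplicative (ZMod (r ^ v)))) := by
  classical
  have hrp : r.Prime := Fact.out
  obtain ⟨ι, hι, n, hn, ⟨e⟩⟩ := CommGroup.equiv_prod_multiplicative_zmod_of_finite P
  haveI := hι
  have hdvd : ∀ i, n i ∣ r ^ v := fun i => by
    have h := congrArg (fun f : (i : ι) → Multiplicative (ZMod (n i)) => Multiplicative.toAdd (f i))
      ((map_pow e _ (r ^ v)).symm.trans ((congrArg e (hexp (e.symm (Pi.mulSingle i (Multiplicative.ofAdd 1))))).trans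
        (map_one e)))
    simp only [MulEquiv.apply_symm_apply, Pi.pow_apply, Pi.mulSingle_eq_same, toAdd_pow, toAdd_ofAdd, Pi.one_apply,
      toAdd_one, nsmul_eq_mul, mul_one] at h
    exact (ZMod.natCast_eq_zero_iff _ _).1 h
  choose w hwv hw using fun i => (Nat.dvd_prime_pow hrp).1 (hdvd i)
  have hw0 : ∀ i, 0 < w i := fun i => Nat.pos_of_ne_zero fun h => by
    have := hn i
    rw [hw i, h, pow_zero] at this
    omega
  haveI : ∀ i, NeZero (n i) := fun i => ⟨by have := hn i; omega⟩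
  have hcardι : Fintype.card ι ≤ a := by
    let g : (ι → Fin r) → {x : P // x ^ r = 1} := fun k =>
      ⟨e.symm fun i => Multiplicative.ofAdd ((((k i : ℕ) * r ^ (w i - 1) : ℕ)) : ZMod (n i)), by
        refine e.injective ?_
        rw [map_pow, map_one, MulEquiv.apply_symm_apply]
        funext i
        apply Multiplicative.toAdd.injective
        simp only [Pi.pow_apply, toAdd_pow, toAdd_ofAdd, Pi.one_apply, toAdd_one, nsmul_eq_mul]
        rw [← Nat.cast_mul, ZMod.natCast_eq_zero_iff, hw i]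
        refine ⟨k i, ?_⟩
        have : r * r ^ (w i - 1) = r ^ w i := by rw [← pow_succ', Nat.sub_add_cancel (hw0 i)]
        rw [← this]
        ring⟩
    have hg : Function.Injective g := by
      intro k k' h
      funext i
      refine Fin.ext ?_
      have h1 : (((k i : ℕ) * r ^ (w i - 1) : ℕ) : ZMod (n i)) = (((k' i : ℕ) * r ^ (w i - 1) : ℕ) : ZMod (n i)) :=
        Multiplicative.ofAdd.injective (congrFun (e.symm.injective (congrArg Subtype.val h)) i)
      rw [ZMod.natCast_eq_natCast_iff] at h1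
      have hlt : ∀ x : Fin r, (x : ℕ) * r ^ (w i - 1) < n i := fun x => by
        rw [hw i, show r ^ w i = r * r ^ (w i - 1) by rw [← pow_succ', Nat.sub_add_cancel (hw0 i)]]
        exact Nat.mul_lt_mul_of_pos_right x.isLt (pow_pos hrp.pos _)
      exact Nat.eq_of_mul_eq_mul_right (pow_pos hrp.pos _) (h1.eq_of_lt_of_lt (hlt _) (hlt _))
    have h := (Nat.card_le_card_of_injective g hg).trans hr
    rw [Nat.card_fun, Nat.card_fin, Nat.card_eq_fintype_card] at h
    exact (Nat.pow_le_pow_iff_right hrp.one_lt).1 h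
  have hsum : ∑ i, w i = v * a := by
    have h := (Nat.card_congr e.toEquiv).symm.trans hcard
    rw [Nat.card_pi, Finset.prod_congr rfl fun i _ =>
      ((Nat.card_congr Multiplicative.toAdd).trans (Nat.card_zmod (n i))).trans (hw i), Finset.prod_pow_eq_pow_sum] at h
    exact Nat.pow_right_injective hrp.two_le h
  have hle : ∑ i, w i ≤ ∑ _i : ι, v := Finset.sum_le_sum fun i _ => hwv i
  rw [Finset.sum_const, Finset.card_univ, smul_eq_mul, hsum] at hle
  have hca : Fintype.card ι = a := le_antisymm hcardι (Nat.le_of_mul_le_mul_left (by rwa [mul_comm _ v] at hle) hv)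
  have hall : ∀ i, w i = v := by
    intro i
    by_contra hne
    have hlt : ∑ i, w i < ∑ _i : ι, v :=
      Finset.sum_lt_sum (fun j _ => hwv j) ⟨i, Finset.mem_univ i, lt_of_le_of_ne (hwv i) hne⟩
    rw [Finset.sum_const, Finset.card_univ, smul_eq_mul, hsum, hca, mul_comm] at hlt
    exact lt_irrefl _ hlt
  have hnv : n = fun _ => r ^ v := funext fun i => by rw [hw i, hall i]
  subst hnv
  exact ⟨e.trans (MulEquiv.arrowCongr (Fintype.equivFinOfCardEq hca) (MulEquiv.refl _))⟩

end Cfsg.Agent.Small.SylowHom
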