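import Cfsg.Agent.Lib.Small.SylowHom.Coords
import Cfsg.Agent.Lib.Small.SylowHom.Numbers
import Cfsg.Agent.Lib.Small.AltSec.EigenLift
import Cfsg.Agent.Lib.Small.ChevInvol.Cent
import Cfsg.Agent.Lib.Lie.GroupCard
import Cfsg.Agent.Lib.Lie.FieldFix

/-!
Sylow subgroups of the Chevalley groups for primes not dividing the order of the Weyl group: conjugated
into the split torus over an extension, they are the fixed points of a twisted Frobenius.
-/

set_option autoImplicit false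
set_option linter.unusedSectionVars false

namespace Cfsg.Agent.Small.SylowHom

open Cfsg.Lie Cfsg.Agent.Lie Cfsg.Agent.Small.ChevInvol
open scoped MatrixGroups

variable {D : ChevalleyDatum} (hF : Facts D)

/-- The number of degrees divisible by d. -/
def rk (ds : List ℕ) (d : ℕ) : ℕ := (ds.filter fun e => d ∣ e).length

/-- The bound for the eigenspaces of the Weyl group modulo primes not dividing its order. -/
def EigBound (D : ChevalleyDatum) (ds : List ℕ) : Prop :=
  ∀ (ω : List (Fin D.rank)) (r : ℕ) [Fact r.Prime], ¬ r ∣ ds.prod → ∀ (d : ℕ) (ζ : ZMod r), IsPrimitiveRoot ζ d →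
    (∃ e ∈ ds, d ∣ e) →
      Module.finrank (ZMod r)
        ↥(Module.End.eigenspace (Matrix.toLin' ((wmat ω).map (Int.castRingHom (ZMod r)))) ζ) ≤ rk ds d

variable {L : Type*} [Field L]

/-- The torus inside the group. -/
def T (D : ChevalleyDatum) (L : Type*) [Field L] : Subgroup ↥(D.group L) :=
  (D.diagonalSubgroup L).subgroupOf (D.group L)

include hF in
theorem mem_T {y : ↥(D.group L)} : y ∈ T D L ↔ (y : GL D.Idx L) ∈ (hF.tsys L).H := by
  rw [hF.tsys_H]; exact Subgroup.mem_subgroupOf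

include hF in
/-- One monomial element realises the fusion of g on the torus. -/
theorem fusion (g : ↥(D.group L)) : ∃ (w : hF.weyl) (a : GL D.Idx L), a ∈ (hF.tsys L).H ∧
    ∀ x ∈ T D L, g * x * g⁻¹ ∈ T D L →
      a * (hF.tsys L).nW w * (x : GL D.Idx L) * (a * (hF.tsys L).nW w)⁻¹ =
        ((g * x * g⁻¹ : ↥(D.group L)) : GL D.Idx L) := by
  obtain ⟨b, hb, w, u, hu, hg⟩ := hF.mem_bnu g.2
  obtain ⟨u0, hu0, a, ha, rfl⟩ := (hF.tsys L).mem_B.1 hb
  refine ⟨w, a, ha, fun x hx hgx => ?_⟩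
  show a * (hF.tsys L).nW w * (x : GL D.Idx L) * (a * (hF.tsys L).nW w)⁻¹ =
    (g : GL D.Idx L) * x * (g : GL D.Idx L)⁻¹
  have h1 : (x : GL D.Idx L) ∈ (hF.tsys L).H := (mem_T hF).1 hx
  have h2 : (g : GL D.Idx L) * x * (g : GL D.Idx L)⁻¹ ∈ (hF.tsys L).H := (mem_T hF).1 hgx
  rw [hg] at h2 ⊢
  generalize hx' : (x : GL D.Idx L) = h₁ at h1 h2 ⊢
  generalize hh2 : u0 * a * (hF.tsys L).nW w * u * h₁ * (u0 * a * (hF.tsys L).nW w * u)⁻¹ = h₂ at h2 ⊢
  set n := (hF.tsys L).nW w with hn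
  have hk : n * h₁ * n⁻¹ ∈ (hF.tsys L).H := (hF.tsys L).nW_H h1
  have hu' : h₁⁻¹ * u * h₁ ∈ (hF.tsys L).US (TorusSys.invList w) := by
    have h := (hF.tsys L).H_conj_US (inv_mem h1)
      (fun r hr => ((TorusSys.closed_invList w).mem_pos r hr).2) hu
    rw [inv_inv] at h
    exact h
  have heq : u0 * a * (n * h₁ * n⁻¹) * n * (h₁⁻¹ * u * h₁) = h₂ * (u0 * a) * n * u := by
    rw [← hh2]; group
  have hb2 : u0 * a * (n * h₁ * n⁻¹) ∈ (hF.tsys L).B := mul_mem hb ((hF.tsys L).H_le_B hk)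
  have h4 := (hF.bruhat_unique hb2 (mul_mem ((hF.tsys L).H_le_B h2) hb) hu' hu heq).2.1
  have h5 : (h₂ * u0 * h₂⁻¹)⁻¹ * u0 ∈ (hF.tsys L).U :=
    mul_mem (inv_mem ((hF.tsys L).H_conj_US h2 TorusSys.posL_lt hu0)) hu0
  have h6 : (h₂ * u0 * h₂⁻¹)⁻¹ * u0 = h₂ * a * (a * (n * h₁ * n⁻¹))⁻¹ := by
    calc (h₂ * u0 * h₂⁻¹)⁻¹ * u0
        = (h₂ * u0 * h₂⁻¹)⁻¹ * (u0 * a * (n * h₁ * n⁻¹)) * (a * (n * h₁ * n⁻¹))⁻¹ := by group
      _ = _ := by rw [h4]; group
  have h7 := hF.U_inter_H h5 (h6 ▸ mul_mem (mul_mem h2 ha) (inv_mem (mul_mem ha hk)))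
  rw [h6] at h7
  calc a * n * h₁ * (a * n)⁻¹ = a * (n * h₁ * n⁻¹) * a⁻¹ := by group
    _ = h₂ * a * a⁻¹ := by rw [mul_inv_eq_one.1 h7]
    _ = h₂ := mul_inv_cancel_right _ _

include hF in
theorem group_le {K : Type*} [Field K] (f : K →+* L) {g : GL D.Idx K} (hg : g ∈ D.group K) :
    gmap f g ∈ D.group L := hF.gmap_group_le f (Subgroup.mem_map_of_mem _ hg)

section Ext

variable [Fintype L] {r : ℕ} [Fact r.Prime] {k : ℕ} {dd : Fin k → ℕ} (Kc : KerCert (cartanSys D) dd)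
  {ds : List ℕ} (hdd : ∀ a, dd a ∣ ds.prod) (hrW : ¬ r ∣ ds.prod)

include Kc hdd hrW in
theorem gcd_prime (Q : ℕ) : ¬ r ∣ ∏ a, Nat.gcd (dd a) (Q - 1) := fun h => by
  obtain ⟨a, -, ha⟩ := (Fact.out : r.Prime).prime.exists_mem_finset_dvd h
  exact hrW ((ha.trans (Nat.gcd_dvd_left _ _)).trans (hdd a))

include hF Kc hdd hrW in
theorem not_dvd_ker : ¬ r ∣ Nat.card (torus D L).ker := by
  have h1 := Subgroup.card_eq_card_quotient_mul_card_subgroup (torus D L).ker
  have h2 : Nat.card (D.diagonalSubgroup L) = Nat.card ((Fin D.rank → Lˣ) ⧸ (torus D L).ker) := by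
    rw [hF.diagonalSubgroup_eq L]
    exact Nat.card_congr (QuotientGroup.quotientKerEquivRange _).toEquiv.symm
  have h3 := hF.card_diagonal (F := L) Kc
  rw [Nat.card_fun, Nat.card_units, Nat.card_fin, ← h2, ← h3, mul_comm] at h1
  rw [← Nat.eq_of_mul_eq_mul_left Nat.card_pos h1]
  exact gcd_prime Kc hdd hrW _

include hF Kc hdd hrW in
theorem torus_inj {c c' : Fin D.rank → Lˣ} (h : torus D L c = torus D L c') (hc : c ^ r = 1) (hc' : c' ^ r = 1) :
    c = c' := by
  have hmem : c * c'⁻¹ ∈ (torus D L).ker := by rw [MonoidHom.mem_ker, map_mul, map_inv, h, mul_inv_cancel]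
  have h1 : (c * c'⁻¹) ^ r = 1 := by rw [mul_pow, inv_pow, hc, hc', inv_one, mul_one]
  have h2 : (c * c'⁻¹) ^ Nat.card (torus D L).ker = 1 :=
    congrArg Subtype.val (pow_card_eq_one' (x := (⟨_, hmem⟩ : (torus D L).ker)))
  exact mul_inv_eq_one.1 (orderOf_eq_one_iff.1 (Nat.eq_one_of_dvd_coprimes
    ((Fact.out : r.Prime).coprime_iff_not_dvd.2 (not_dvd_ker hF Kc hdd hrW (L := L)))
    (orderOf_dvd_of_pow_eq_one h1) (orderOf_dvd_of_pow_eq_one h2)))

include hF Kc hdd hrW in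
theorem exists_coords {y : GL D.Idx L} (hy : y ∈ (hF.tsys L).H) {j : ℕ} (hyr : y ^ r ^ j = 1) :
    ∃ c, torus D L c = y ∧ c ^ r ^ j = 1 := by
  obtain ⟨c, rfl⟩ := exists_torus hF hy
  set N := Nat.card (torus D L).ker
  have hco : Nat.Coprime N (r ^ j) :=
    (((Fact.out : r.Prime).coprime_iff_not_dvd.2 (not_dvd_ker hF Kc hdd hrW (L := L))).symm).pow_right j
  have hk : (c ^ r ^ j) ^ N = 1 := by
    have hmem : c ^ r ^ j ∈ (torus D L).ker := by rw [MonoidHom.mem_ker, map_pow, hyr]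
    exact congrArg Subtype.val (pow_card_eq_one' (x := (⟨_, hmem⟩ : (torus D L).ker)))
  obtain ⟨u, hu⟩ : ∃ u, (N * u) ≡ 1 [MOD r ^ j] := by
    rcases eq_or_ne (r ^ j) 1 with h | h
    · exact ⟨0, by rw [h]; exact Nat.modEq_one⟩
    · obtain ⟨u, hu⟩ := Nat.exists_mul_mod_eq_one_of_coprime hco
        (lt_of_le_of_ne (Nat.one_le_pow _ _ (Fact.out : r.Prime).pos) (Ne.symm h))
      exact ⟨u, by rw [Nat.ModEq, hu.2, Nat.mod_eq_of_lt (lt_of_le_of_ne (Nat.one_le_pow _ _ (Fact.out : r.Prime).pos) (Ne.symm h))]⟩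
  refine ⟨c ^ (N * u), ?_, ?_⟩
  · rw [map_pow, ← pow_one (torus D L c), ← pow_mul, one_mul]
    exact pow_eq_pow_iff_modEq.2 (hu.of_dvd (orderOf_dvd_of_pow_eq_one hyr))
  · rw [← pow_mul, mul_comm, pow_mul, pow_mul, hk, one_pow]

include hF Kc hdd hrW in
theorem index_T (hds : ds.length = D.rank)
    (hlen : ∀ q, hF.lenSum (List.range D.rank) q = (ds.map fun e => ∑ j ∈ Finset.range e, q ^ j).prod)
    (hQ : (Fintype.card L : ZMod r) = 1) : ¬ r ∣ (T D L).index := by
  set Q := Fintype.card L with hQdef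
  have h := (T D L).card_mul_index
  have hle : D.diagonalSubgroup L ≤ D.group L := fun x hx =>
    hF.monomial_le_group (by rw [← hF.tsys_N]; exact (hF.tsys L).H_le_N (by rwa [hF.tsys_H]))
  have hd : (∏ a, Nat.gcd (dd a) (Q - 1)) * Nat.card (D.diagonalSubgroup L) = (Q - 1) ^ D.rank := by
    simpa [← hQdef] using hF.card_diagonal (F := L) Kc
  have hg := hF.card_group (F := L) (q := Q) rfl Kc ds hds hlen
  rw [T, Nat.card_congr (Subgroup.subgroupOfEquivOfLe hle).toEquiv] at h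
  rw [← h, ← mul_assoc, hd, ← Facts.pred_pow_mul_geom ds (show 1 ≤ Q from Fintype.card_pos), hds] at hg
  have hI : (T D L).index = Q ^ (D.nroots / 2) * (ds.map fun e => ∑ j ∈ Finset.range e, Q ^ j).prod := by
    refine Nat.eq_of_mul_eq_mul_left (pow_pos (show 0 < Q - 1 by
      have := Fintype.one_lt_card (α := L); omega) D.rank) ?_
    rw [T, hg]; ring
  rw [hI, ← ZMod.natCast_eq_zero_iff]
  push_cast
  rw [hQ, one_pow, one_mul]
  intro h0
  rw [List.map_map] at h0
  refine hrW ((ZMod.natCast_eq_zero_iff _ _).1 ?_)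
  rw [Nat.cast_list_prod]
  refine Eq.trans (congrArg List.prod (List.map_congr_left fun e _ => ?_)) h0
  simp [hQ]

end Ext

include hF in
theorem sylow_homocyclic {F : Type*} [Field F] [Fintype F] {q : ℕ} (hq : Fintype.card F = q) {k : ℕ} {dd : Fin k → ℕ}
    (Kc : KerCert (cartanSys D) dd) {ds : List ℕ} (hdd : ∀ a, dd a ∣ ds.prod) (hds : ds.length = D.rank)
    (hlen : ∀ q, hF.lenSum (List.range D.rank) q = (ds.map fun e => ∑ j ∈ Finset.range e, q ^ j).prod)
    (hB : EigBound D ds) (r : ℕ) [Fact r.Prime] (hrq : ¬ r ∣ q) (hrW : ¬ r ∣ ds.prod)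
    (hrG : r ∣ Nat.card ↥(D.group F)) (P : Sylow r ↥(D.group F)) :
    Nonempty (↥(P : Subgroup ↥(D.group F)) ≃*
      (Fin (ds.filter (fun e => orderOf (q : ZMod r) ∣ e)).length →
        Multiplicative (ZMod (r ^ padicValNat r ((Polynomial.cyclotomic (orderOf (q : ZMod r)) ℤ).eval (q : ℤ)).natAbs)))) := by
  classical
  have hq2 : 2 ≤ q := hq ▸ Fintype.one_lt_card
  set d := orderOf (q : ZMod r) with hd
  set v := padicValNat r (q ^ d - 1) with hv
  rw [val_cyclotomic hq2 hrq, ← hv]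
  have hd0 : 0 < d := order_pos hrq
  have hre : ∀ e ∈ ds, ¬ r ∣ e := fun e he h => hrW (h.trans (List.dvd_prod he))
  -- the order
  have hval : padicValNat r (Nat.card ↥(D.group F)) = rk ds d * v := by
    have hg := hF.card_group (F := F) hq Kc ds hds hlen
    have hprod : (ds.map fun e => q ^ e - 1).prod ≠ 0 := by
      refine List.prod_ne_zero fun h0 => ?_
      obtain ⟨x, hx, hx0⟩ := List.mem_map.1 h0
      have := pred_pow_pos hq2 (fun hz : x = 0 => hre x hx (hz ▸ dvd_zero r))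
      omega
    have hne : ∏ a, Nat.gcd (dd a) (q - 1) ≠ 0 := fun h => gcd_prime Kc hdd hrW q (h ▸ dvd_zero r)
    have h := congrArg (padicValNat r) hg
    rw [padicValNat.mul hne Nat.card_pos.ne', padicValNat.eq_zero_of_not_dvd (gcd_prime Kc hdd hrW q), zero_add,
      padicValNat.mul (pow_ne_zero _ (by omega)) hprod,
      padicValNat.eq_zero_of_not_dvd (fun h => hrq ((Fact.out : r.Prime).dvd_of_dvd_pow h)), zero_add,
      val_prod hq2 hrq ds hre] at h
    exact h
  have hv0 : 0 < v := one_le_padicValNat_of_dvd (pred_pow_pos hq2 hd0.ne').ne' ((dvd_pred_pow (by omega) d).2 dvd_rfl)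
  have hex : ∃ e ∈ ds, d ∣ e := by
    by_contra hc
    push Not at hc
    have h0 : rk ds d = 0 := List.length_eq_zero_iff.2 (List.filter_eq_nil_iff.2 fun e he => by simpa using hc e he)
    rw [h0, zero_mul] at hval
    exact absurd (one_le_padicValNat_of_dvd Nat.card_pos.ne' hrG) (by omega)
  -- the extension
  obtain ⟨p, hp⟩ := CharP.exists F
  haveI := hp
  haveI : Fact p.Prime := ⟨(CharP.char_is_prime_or_zero F p).resolve_right (CharP.char_ne_zero_of_finite F p)⟩
  haveI : NeZero d := ⟨hd0.ne'⟩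
  let L := FiniteField.Extension F p d
  letI := Fintype.ofFinite L
  have hL : Fintype.card L = q ^ d := by
    rw [← Nat.card_eq_fintype_card, FiniteField.natCard_extension, Nat.card_eq_fintype_card, hq]
  obtain ⟨f, -, hf⟩ := FiniteField.card F p
  haveI : CharP L p := charP_of_injective_ringHom (algebraMap F L).injective p
  let σ : L ≃+* L := iterateFrobeniusEquiv L p f
  have hσ : ∀ x : L, σ x = x ^ q := fun x => by rw [show σ x = x ^ p ^ (f : ℕ) from rfl, ← hf, hq]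
  let j : ↥(D.group F) →* ↥(D.group L) :=
    ((gmap (algebraMap F L)).comp (D.group F).subtype).codRestrict _ fun g => group_le hF (algebraMap F L) g.2
  have hj : Function.Injective j := fun a b h =>
    Subtype.ext (gmap_injective (algebraMap F L) (congrArg Subtype.val h))
  let σG : ↥(D.group L) →* ↥(D.group L) :=
    ((gmap σ.toRingHom).comp (D.group L).subtype).codRestrict _ fun g => group_le hF σ.toRingHom g.2
  have hfix : ∀ x : ↥(D.group F), σG (j x) = j x := fun x => by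
    refine Subtype.ext (Units.ext (Matrix.ext fun a b => ?_))
    show σ (algebraMap F L (((x : GL D.Idx F) : Matrix D.Idx D.Idx F) a b)) =
      algebraMap F L (((x : GL D.Idx F) : Matrix D.Idx D.Idx F) a b)
    rw [hσ, ← map_pow, ← hq, FiniteField.pow_card]
  have hQ : (Fintype.card L : ZMod r) = 1 := by rw [hL, Nat.cast_pow]; exact pow_orderOf_eq_one _
  obtain ⟨c, -, hc⟩ := AltSec.conj_into (r := r) (le_top : T D L ≤ ⊤) (index_T hF Kc hdd hrW hds hlen hQ)
    (le_top : (P : Subgroup ↥(D.group F)).map j ≤ ⊤) (P.2.map _)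
  let y : ↥(P : Subgroup ↥(D.group F)) → ↥(D.group L) := fun x => c * j x * c⁻¹
  have hyT : ∀ x, y x ∈ T D L := fun x => hc _ (Subgroup.mem_map_of_mem j x.2)
  have hyinj : Function.Injective y := fun a b h => Subtype.ext (hj (mul_left_cancel (mul_right_cancel h)))
  have hymul : ∀ a b, y (a * b) = y a * y b := fun a b => by
    show c * j ((a : ↥(D.group F)) * b) * c⁻¹ = c * j a * c⁻¹ * (c * j b * c⁻¹)
    rw [map_mul]; group
  have hypow : ∀ a (m : ℕ), y (a ^ m) = y a ^ m := fun a m => by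
    show c * j ((a : ↥(D.group F)) ^ m) * c⁻¹ = (c * j a * c⁻¹) ^ m
    rw [map_pow, conj_pow]
  have hy1 : y 1 = 1 := by show c * j 1 * c⁻¹ = 1; rw [map_one]; group
  have hcomm : ∀ a b : ↥(P : Subgroup ↥(D.group F)), a * b = b * a := fun a b => hyinj (by
    rw [hymul, hymul]
    exact Subtype.ext (ChevInvol.H_comm hF ((mem_T hF).1 (hyT a)) ((mem_T hF).1 (hyT b))))
  letI : CommGroup ↥(P : Subgroup ↥(D.group F)) := { (inferInstance : Group ↥(P : Subgroup ↥(D.group F))) with mul_comm := hcomm }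
  refine homocyclic hv0 (fun x => hyinj ?_) ?_ ?_
  · -- the exponent
    obtain ⟨i, hi⟩ := P.2 x
    have hyi : ((y x : ↥(D.group L)) : GL D.Idx L) ^ r ^ i = 1 := by
      rw [← SubgroupClass.coe_pow, ← hypow, hi, hy1]; rfl
    obtain ⟨c0, hc0, hc0r⟩ := exists_coords hF Kc hdd hrW ((mem_T hF).1 (hyT x)) hyi
    have hQ1 : c0 ^ (q ^ d - 1) = 1 := funext fun a => by
      rw [Pi.pow_apply, Pi.one_apply, ← hL, ← Fintype.card_units]; exact pow_card_eq_one
    have hdiv : orderOf c0 ∣ r ^ v := by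
      obtain ⟨e, -, he⟩ := (Nat.dvd_prime_pow (Fact.out : r.Prime)).1 (orderOf_dvd_of_pow_eq_one hc0r)
      rw [he]
      exact pow_dvd_pow r ((padicValNat_dvd_iff_le (pred_pow_pos hq2 hd0.ne').ne').1 (he ▸ orderOf_dvd_of_pow_eq_one hQ1))
    rw [hypow, hy1]
    refine Subtype.ext ?_
    rw [SubgroupClass.coe_pow, ← hc0, ← map_pow, orderOf_dvd_iff_pow_eq_one.1 hdiv, map_one]
    rfl
  · rw [P.card_eq_multiplicity, Nat.factorization_def _ (Fact.out : r.Prime), hval, mul_comm]; rfl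
  -- the elements of order r
  obtain ⟨w, a, ha, hn⟩ := fusion hF (σG c * c⁻¹)
  obtain ⟨ω, hω⟩ := hF.refSys.exists_word w
  obtain ⟨a', ha', he⟩ := (hF.tsys L).nw_eq hω
  have hrQ : r ∣ Fintype.card Lˣ := by
    rw [Fintype.card_units, hL]; exact (dvd_pred_pow (by omega) d).2 dvd_rfl
  obtain ⟨ξ, hξ⟩ := exists_prime_orderOf_dvd_card r hrQ
  have hξp : IsPrimitiveRoot ((ξ : Lˣ) : L) r := IsPrimitiveRoot.coe_units_iff.2 (hξ ▸ IsPrimitiveRoot.orderOf ξ)
  set E := Module.End.eigenspace (Matrix.toLin' ((wmat ω).map (Int.castRingHom (ZMod r)))) (q : ZMod r) with hE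
  have key : ∀ x : {x : ↥(P : Subgroup ↥(D.group F)) // x ^ r = 1}, ∃ z : ↥E,
      torus D L (fun m => ξ ^ ((z : Fin D.rank → ZMod r) m).val) = ((y x.1 : ↥(D.group L)) : GL D.Idx L) := by
    rintro ⟨x, hx⟩
    have hyi : ((y x : ↥(D.group L)) : GL D.Idx L) ^ r ^ 1 = 1 := by
      rw [pow_one, ← SubgroupClass.coe_pow, ← hypow, hx, hy1]; rfl
    obtain ⟨c0, hc0, hc0r⟩ := exists_coords hF Kc hdd hrW ((mem_T hF).1 (hyT x)) hyi
    rw [pow_one] at hc0r
    have hz : ∀ m, ∃ i : ℕ, i < r ∧ ξ ^ i = c0 m := fun m => by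
      obtain ⟨i, hi, hie⟩ := hξp.eq_pow_of_pow_eq_one (ξ := ((c0 m : Lˣ) : L))
        (by rw [← Units.val_pow_eq_pow_val, show c0 m ^ r = 1 from congrFun hc0r m, Units.val_one])
      exact ⟨i, hi, Units.ext (by rw [Units.val_pow_eq_pow_val, hie])⟩
    choose z hzr hz using hz
    have hsig : gmap σ.toRingHom (torus D L c0) = torus D L (c0 ^ q) := by
      rw [gmap_torus]
      congr 1
      funext m
      exact Units.ext (by rw [Pi.pow_apply, Units.val_pow_eq_pow_val]; exact hσ _)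
    have e1 : σG c * c⁻¹ * y x * (σG c * c⁻¹)⁻¹ = σG (y x) := by
      show σG c * c⁻¹ * (c * j x * c⁻¹) * (σG c * c⁻¹)⁻¹ = σG (c * j x * c⁻¹)
      rw [map_mul, map_mul, map_inv, hfix]; group
    have hmem : σG (y x) ∈ T D L := (mem_T hF).2 (by
      show gmap σ.toRingHom ((y x : ↥(D.group L)) : GL D.Idx L) ∈ _
      rw [← hc0, hsig]; exact torus_mem_H hF _)
    have e2 := hn _ (hyT x) (by rw [e1]; exact hmem)
    rw [e1] at e2
    have e3 : a * (hF.tsys L).nW w * torus D L c0 * (a * (hF.tsys L).nW w)⁻¹ = torus D L (c0 ^ q) := by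
      rw [hc0, ← hsig, hc0, e2]; rfl
    have e4 : (hF.tsys L).nw ω * torus D L c0 * ((hF.tsys L).nw ω)⁻¹ = torus D L (c0 ^ q) := by
      have hb : ∀ b ∈ (hF.tsys L).H, b * torus D L (c0 ^ q) * b⁻¹ = torus D L (c0 ^ q) := fun b hb => by
        rw [ChevInvol.H_comm hF hb (torus_mem_H hF _), mul_inv_cancel_right]
      have e5 := hb (a' * a⁻¹) (mul_mem ha' (inv_mem ha))
      rw [← e3] at e5
      rw [he, ← e3]
      refine Eq.trans ?_ e5
      group
    rw [nw_conj hF] at e4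
    have hact : act (wmat ω) c0 = c0 ^ q := by
      refine torus_inj hF Kc hdd hrW e4 ?_ (by rw [← pow_mul, mul_comm, pow_mul, hc0r, one_pow])
      funext m
      rw [Pi.pow_apply, act, ← Finset.prod_pow, Pi.one_apply]
      refine Finset.prod_eq_one fun t _ => ?_
      rw [← zpow_natCast, ← _root_.zpow_mul, mul_comm, _root_.zpow_mul, zpow_natCast,
        show c0 t ^ r = 1 from congrFun hc0r t, one_zpow]
    refine ⟨⟨fun m => (z m : ZMod r), Module.End.mem_eigenspace_iff.2 (funext fun m => ?_)⟩, ?_⟩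
    · have h1 := congrFun hact m
      simp only [act, Pi.pow_apply, ← hz] at h1
      have hsum : ∀ S : Finset (Fin D.rank), ∏ t ∈ S, (ξ ^ z t) ^ wmat ω m t = ξ ^ ∑ t ∈ S, wmat ω m t * (z t : ℤ) := by
        intro S
        induction S using Finset.induction_on with
        | empty => simp
        | insert b S hb ih =>
          rw [Finset.prod_insert hb, Finset.sum_insert hb, _root_.zpow_add, ih, ← zpow_natCast, ← _root_.zpow_mul,
            mul_comm (z b : ℤ)]
      rw [hsum, ← pow_mul, ← zpow_natCast, zpow_eq_zpow_iff_modEq, hξ, ← ZMod.intCast_eq_intCast_iff] at h1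
      push_cast at h1
      simp only [Matrix.toLin'_apply, Matrix.mulVec, dotProduct, Matrix.map_apply, eq_intCast, Pi.smul_apply, smul_eq_mul]
      rw [h1, mul_comm]
    · show torus D L (fun m => ξ ^ ((z m : ZMod r)).val) = _
      rw [← hc0]
      congr 1
      funext m
      rw [ZMod.val_natCast, Nat.mod_eq_of_lt (hzr m), hz]
  choose z hz using key
  have hzinj : Function.Injective z := fun x x' h => by
    refine Subtype.ext (hyinj (Subtype.ext ?_))
    rw [← hz x, ← hz x', h]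
  refine (Nat.card_le_card_of_injective z hzinj).trans ?_
  rw [Module.natCard_eq_pow_finrank (K := ZMod r), Nat.card_zmod]
  exact Nat.pow_le_pow_right (Fact.out : r.Prime).pos (hB ω r hrW d _ (IsPrimitiveRoot.orderOf _) hex)

end Cfsg.Agent.Small.SylowHom
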