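import Cfsg.Agent.Lib.Small.SylowHom.Exceptions
import Cfsg.Agent.Lib.Small.SylowHom.Main
import Cfsg.Agent.Lib.Lie.TorusCerts
import Cfsg.Agent.Lib.Lie.WeylB2
import Cfsg.Agent.Lib.Lie.WeylG2
import Cfsg.Agent.Lib.Lie.WeylD4
import Cfsg.Agent.Lib.Lie.WeylF4
import Cfsg.Agent.Lib.Lie.WeylE6
import Cfsg.Agent.Lib.Lie.WeylE7
import Cfsg.Agent.Lib.Lie.WeylE8

/-!
The eigenspace bound for each of the seven types.
-/

set_option autoImplicit false
set_option maxRecDepth 4000
set_option linter.unusedSectionVars false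

namespace Cfsg.Agent.Small.SylowHom

open Cfsg.Lie Cfsg.Agent.Lie

/-- The degree count decides every d outside ex. -/
def okDeg (ds : List ℕ) (l : ℕ) (ex : List ℕ) : Bool :=
  ds.all fun e => (List.range (e + 1)).all fun d =>
    !(e % d == 0) || ex.contains d || decide (l < (rk ds d + 1) * Nat.totient d)

theorem eigBound_of {D : ChevalleyDatum} (hF : Facts D) {k : ℕ} {dd : Fin k → ℕ} (Kc : KerCert (cartanSys D) dd)
    (hd0 : ∀ a, dd a ≠ 0) {ds : List ℕ} (hpos : ∀ e ∈ ds, 0 < e)
    (hlen : ∀ q, hF.lenSum (List.range D.rank) q = (ds.map fun e => ∑ j ∈ Finset.range e, q ^ j).prod)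
    (ex : List ℕ) (hok : okDeg ds D.rank ex = true)
    (hex : ∀ (ω : List (Fin D.rank)) (s : Multiset ℕ) (N : ℕ), 0 < N → wmat ω ^ N = 1 → (∀ e ∈ s, 0 < e) →
      (wmat ω).charpoly = (s.map fun e => Polynomial.cyclotomic e ℤ).prod → (s.map Nat.totient).sum = D.rank →
      ∀ d ∈ ex, s.count d ≤ rk ds d) : EigBound D ds := by
  intro ω r _ hr d ζ hζ hd
  have hN : Nat.card hF.weyl = ds.prod := by
    rw [hF.card_weyl, hlen]
    simp
  have hM := wmat_pow hF Kc hd0 ω
  rw [hN] at hM
  have hN0 : 0 < ds.prod := Nat.pos_of_ne_zero fun h => hr (h ▸ dvd_zero r)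
  obtain ⟨s, hs, hse, hsum, hle⟩ := exists_factors (wmat ω) hN0 hM (ZMod r)
    (fun h => hr ((ZMod.natCast_eq_zero_iff _ _).1 h)) hζ
  rw [Fintype.card_fin] at hsum
  refine hle.trans ?_
  by_cases hdx : d ∈ ex
  · exact hex ω s _ hN0 hM hs hse hsum d hdx
  obtain ⟨e, he, hde⟩ := hd
  simp only [okDeg, List.all_eq_true, List.mem_range, Bool.or_eq_true, Bool.not_eq_true', beq_eq_false_iff_ne, ne_eq,
    decide_eq_true_eq, List.contains_iff_mem] at hok
  rcases hok e he d (Nat.lt_succ_of_le (Nat.le_of_dvd (hpos e he) hde)) with (h | h) | h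
  · exact absurd (Nat.mod_eq_zero_of_dvd hde) h
  · exact absurd h hdx
  obtain ⟨t, -, -, ht⟩ := charpoly_facts hs hsum (le_refl (s.count d))
  refine Nat.le_of_lt_succ ?_
  have hlt : s.count d * d.totient < (rk ds d + 1) * d.totient := by omega
  exact Nat.lt_of_mul_lt_mul_right hlt

theorem eigBoundG2 : EigBound chevG2 [2, 6] :=
  eigBound_of factsG2 kerCertG2 (fun a => a.elim0) (by decide) lenSumG2 [] (by decide +kernel) (by simp)

theorem eigBoundB2 : EigBound chevB2 [2, 4] :=
  eigBound_of factsB2 kerCertB2 (by decide) (by decide) lenSumB2 [] (by decide +kernel) (by simp)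

theorem eigBoundF4 : EigBound chevF4 [2, 6, 8, 12] :=
  eigBound_of factsF4 kerCertF4 (fun a => a.elim0) (by decide) lenSumF4 [] (by decide +kernel) (by simp)

theorem eigBoundE8 : EigBound chevE8 [2, 8, 12, 14, 18, 20, 24, 30] :=
  eigBound_of factsE8 kerCertE8 (fun a => a.elim0) (by decide) lenSumE8 [] (by decide +kernel) (by simp)

theorem eigBoundD4 : EigBound chevD4 [2, 4, 4, 6] :=
  eigBound_of factsD4 kerCertD4 (by decide) (by decide) lenSumD4 [3, 6] (by decide +kernel)
    fun ω s N _ _ hs hse hsum d hd => by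
      have he : ∀ i, (2 : ℤ) ∣ Matrix.mulVec (cmat chevD4) eD4 i := by decide +kernel
      have h := d4_bound (wmat ω) (fun j => wmat_fix (D := chevD4) (2 : ℤ) (eD4 : Fin 4 → ℤ) he ω j) hs hse hsum (d := d) (by simpa using hd)
      rcases (by simpa using hd : d = 3 ∨ d = 6) with rfl | rfl <;> simpa [rk] using h

theorem eigBoundE6 : EigBound chevE6 [2, 5, 6, 8, 9, 12] :=
  eigBound_of factsE6 kerCertE6 (by decide) (by decide) lenSumE6 [2, 4, 6] (by decide +kernel)
    fun ω s N hN hM hs hse hsum d hd => by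
      have hc : cmat chevE6 = cE6 :=
        (by decide +kernel : (Matrix.of fun i j : Fin 6 => cartanSys chevE6 i j) = cE6)
      have he : ∀ i, (3 : ℤ) ∣ Matrix.mulVec (cmat chevE6) eE6 i := by decide +kernel
      have hform := wmat_form (D := chevE6) (by decide +kernel) (by decide +kernel) ω
      rw [hc] at hform
      obtain ⟨h2, h4, h6⟩ := e6_bound (wmat ω) hN hM (fun j => wmat_fix (D := chevE6) (3 : ℤ) (eE6 : Fin 6 → ℤ) he ω j) hform hs hse hsum
      rcases (by simpa using hd : d = 2 ∨ d = 4 ∨ d = 6) with rfl | rfl | rfl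
      exacts [h2.trans (by decide +kernel), h4.trans (by decide +kernel), h6.trans (by decide +kernel)]

theorem eigBoundE7 : EigBound chevE7 [2, 6, 8, 10, 12, 14, 18] :=
  eigBound_of factsE7 kerCertE7 (by decide) (by decide) lenSumE7 [4] (by decide +kernel)
    fun ω s N hN hM hs hse hsum d hd => by
      have hc : cmat chevE7 = cE7 :=
        (by decide +kernel : (Matrix.of fun i j : Fin 7 => cartanSys chevE7 i j) = cE7)
      have hform := wmat_form (D := chevE7) (by decide +kernel) (by decide +kernel) ω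
      rw [hc] at hform
      have h := e7_bound (wmat ω) hN hM hform hs hse hsum
      rcases (by simpa using hd : d = 4) with rfl
      exact h.trans (by decide +kernel)

theorem sylow_of_mem {F : Type*} [Field F] [Fintype F] {q : ℕ} (hq : Fintype.card F = q)
    (c : ChevalleyDatum × List ℕ)
    (hc : c ∈ [(chevG2, [2, 6]), (chevB2, [2, 4]), (chevD4, [2, 4, 4, 6]), (chevF4, [2, 6, 8, 12]),
      (chevE6, [2, 5, 6, 8, 9, 12]), (chevE7, [2, 6, 8, 10, 12, 14, 18]), (chevE8, [2, 8, 12, 14, 18, 20, 24, 30])])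
    (r : ℕ) [Fact r.Prime] (hrq : ¬ r ∣ q) (hrW : ¬ r ∣ c.2.prod) (hrG : r ∣ Nat.card ↥(c.1.group F))
    (P : Sylow r ↥(c.1.group F)) :
    Nonempty (↥(P : Subgroup ↥(c.1.group F)) ≃*
      (Fin (c.2.filter (fun e => orderOf (q : ZMod r) ∣ e)).length →
        Multiplicative (ZMod (r ^ padicValNat r ((Polynomial.cyclotomic (orderOf (q : ZMod r)) ℤ).eval (q : ℤ)).natAbs)))) := by
  simp only [List.mem_cons, List.not_mem_nil, or_false] at hc
  rcases hc with rfl | rfl | rfl | rfl | rfl | rfl | rfl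
  · exact sylow_homocyclic factsG2 hq kerCertG2 (fun a => a.elim0) rfl lenSumG2 eigBoundG2 r hrq hrW hrG P
  · exact sylow_homocyclic factsB2 hq kerCertB2 (by decide) rfl lenSumB2 eigBoundB2 r hrq hrW hrG P
  · exact sylow_homocyclic factsD4 hq kerCertD4 (by decide) rfl lenSumD4 eigBoundD4 r hrq hrW hrG P
  · exact sylow_homocyclic factsF4 hq kerCertF4 (fun a => a.elim0) rfl lenSumF4 eigBoundF4 r hrq hrW hrG P
  · exact sylow_homocyclic factsE6 hq kerCertE6 (by decide) rfl lenSumE6 eigBoundE6 r hrq hrW hrG P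
  · exact sylow_homocyclic factsE7 hq kerCertE7 (by decide) rfl lenSumE7 eigBoundE7 r hrq hrW hrG P
  · exact sylow_homocyclic factsE8 hq kerCertE8 (fun a => a.elim0) rfl lenSumE8 eigBoundE8 r hrq hrW hrG P

end Cfsg.Agent.Small.SylowHom
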