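import Mathlib

/-!
Integer matrices of finite order: the characteristic polynomial is a product of cyclotomic
polynomials, which bounds the eigenspaces modulo primes not dividing the order.
-/

set_option autoImplicit false
set_option linter.unusedSectionVars false

namespace Cfsg.Agent.Small.SylowHom

open Polynomial

variable {n : Type*} [Fintype n] [DecidableEq n]

theorem factor_cyclotomic (M : Matrix n n ℤ) {N : ℕ} (hN : 0 < N) (hM : M ^ N = 1) {p : ℤ[X]} (hp : p.Monic)
    (hirr : Irreducible p) (hdvd : p ∣ M.charpoly) : ∃ e, e ∣ N ∧ p = cyclotomic e ℤ := by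
  obtain ⟨z, hz⟩ : ∃ z : ℂ, (p.map (Int.castRingHom ℂ)).IsRoot z := by
    refine Complex.isAlgClosed.exists_root _ ?_
    rw [hp.degree_map]
    intro h
    exact hirr.not_isUnit (by rw [eq_one_of_monic_natDegree_zero hp (natDegree_eq_of_degree_eq_some h)]; exact isUnit_one)
  have hz' : (M.map (Int.castRingHom ℂ)).charpoly.IsRoot z := by
    rw [Matrix.charpoly_map]
    exact hz.dvd (Polynomial.map_dvd _ hdvd)
  rw [IsRoot.def, Matrix.eval_charpoly] at hz'
  obtain ⟨v, hv0, hv⟩ := Matrix.exists_mulVec_eq_zero_iff.2 hz'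
  rw [Matrix.sub_mulVec, sub_eq_zero] at hv
  have hv1 : Matrix.mulVec (M.map (Int.castRingHom ℂ)) v = z • v := by
    rw [← hv]
    funext i
    simp [Matrix.scalar_apply, Matrix.mulVec_diagonal]
  have hk : ∀ k : ℕ, Matrix.mulVec (M.map (Int.castRingHom ℂ) ^ k) v = z ^ k • v := by
    intro k
    induction k with
    | zero => simp
    | succ k ih => rw [pow_succ, ← Matrix.mulVec_mulVec, hv1, Matrix.mulVec_smul, ih, smul_smul, ← pow_succ']
  have hzN : z ^ N = 1 := by
    have h1 : (M.map (Int.castRingHom ℂ)) ^ N = 1 := by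
      have := congrArg (Int.castRingHom ℂ).mapMatrix hM
      simpa [map_pow] using this
    have h2 := hk N
    rw [h1, Matrix.one_mulVec] at h2
    obtain ⟨i, hi⟩ := Function.ne_iff.1 hv0
    have h3 := congrFun h2 i
    simp only [Pi.smul_apply, smul_eq_mul] at h3
    exact mul_right_cancel₀ hi (h3.symm.trans (one_mul _).symm)
  have hfo : IsOfFinOrder z := isOfFinOrder_iff_pow_eq_one.2 ⟨N, hN, hzN⟩
  refine ⟨orderOf z, orderOf_dvd_of_pow_eq_one hzN, ?_⟩
  rw [cyclotomic_eq_minpoly (IsPrimitiveRoot.orderOf z) hfo.orderOf_pos]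
  have hint : IsIntegral ℤ z := ⟨p, hp, by rw [eval₂_eq_eval_map]; exact hz⟩
  have hd : minpoly ℤ z ∣ p := minpoly.isIntegrallyClosed_dvd hint (by
    rw [aeval_def, eval₂_eq_eval_map]; exact hz)
  exact eq_of_monic_of_associated hp (minpoly.monic hint)
    ((minpoly.irreducible hint).associated_of_dvd hirr hd).symm

/-- A monic divisor of the characteristic polynomial is a product of cyclotomic polynomials. -/
theorem exists_factors_dvd (M : Matrix n n ℤ) {N : ℕ} (hN : 0 < N) (hM : M ^ N = 1) :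
    ∀ (k : ℕ) (f : ℤ[X]), f.Monic → f.natDegree = k → f ∣ M.charpoly →
      ∃ s : Multiset ℕ, (∀ e ∈ s, e ∣ N) ∧ f = (s.map fun e => cyclotomic e ℤ).prod := by
  intro k
  induction k using Nat.strong_induction_on with
  | _ k ih =>
    intro f hf hk hdvd
    by_cases h0 : k = 0
    · exact ⟨0, by simp, by rw [eq_one_of_monic_natDegree_zero hf (hk.trans h0)]; simp⟩
    have hnu : ¬ IsUnit f := fun h => h0 (hk ▸ natDegree_eq_zero_of_isUnit h)
    obtain ⟨p, hp, hpf⟩ := WfDvdMonoid.exists_irreducible_factor hnu hf.ne_zero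
    obtain ⟨g0, hg0⟩ := hpf
    have hu : IsUnit p.leadingCoeff := IsUnit.of_mul_eq_one g0.leadingCoeff (by
      rw [← leadingCoeff_mul, ← hg0]; exact hf)
    obtain ⟨u, hu⟩ := hu
    set p' := C (↑u⁻¹ : ℤ) * p with hp'
    have hass : Associated p p' := ⟨(Units.map C.toMonoidHom) u⁻¹, by rw [hp', mul_comm]; rfl⟩
    have hmon : p'.Monic := by
      rw [hp', Monic, leadingCoeff_mul, leadingCoeff_C, ← hu, Units.inv_mul]
    have hpd : p' ∣ f := hass.dvd_iff_dvd_left.1 ⟨g0, hg0⟩
    obtain ⟨e, he, hpe⟩ := factor_cyclotomic M hN hM hmon (hass.irreducible hp) (hpd.trans hdvd)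
    obtain ⟨g, hg⟩ := hpd
    have hgm : g.Monic := hmon.of_mul_monic_left (hg ▸ hf)
    have hdeg : 0 < p'.natDegree :=
      Nat.pos_of_ne_zero fun h => (hass.irreducible hp).not_isUnit
        (by rw [eq_one_of_monic_natDegree_zero hmon h]; exact isUnit_one)
    have hlt : g.natDegree < k := by
      rw [← hk, hg, hmon.natDegree_mul hgm]; omega
    obtain ⟨s, hs, hgs⟩ := ih _ hlt g hgm rfl ((hg ▸ dvd_mul_left g p' : g ∣ f).trans hdvd)
    refine ⟨e ::ₘ s, fun x hx => ?_, by rw [Multiset.map_cons, Multiset.prod_cons, hg, hpe, ← hgs]⟩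
    rcases Multiset.mem_cons.1 hx with rfl | hx
    exacts [he, hs x hx]

theorem rootMult_cyclotomic {K : Type*} [Field K] {d e : ℕ} (he : (e : K) ≠ 0) {ζ : K} (hζ : IsPrimitiveRoot ζ d) :
    rootMultiplicity ζ (cyclotomic e K) = if e = d then 1 else 0 := by
  haveI : NeZero (e : K) := ⟨he⟩
  split_ifs with h
  · subst h
    refine le_antisymm (rootMultiplicity_le_one_of_separable ?_ ζ) ?_
    · exact Separable.of_dvd ((X_pow_sub_one_separable_iff).2 he)
        (cyclotomic.dvd_X_pow_sub_one e K)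
    · exact (rootMultiplicity_pos (cyclotomic_ne_zero e K)).2 (isRoot_cyclotomic_iff.2 hζ)
  · exact rootMultiplicity_eq_zero fun hr => h ((isRoot_cyclotomic_iff.1 hr).unique hζ)

theorem rootMult_prod {K : Type*} [Field K] {d : ℕ} {ζ : K} (hζ : IsPrimitiveRoot ζ d) :
    ∀ s : Multiset ℕ, (∀ e ∈ s, (e : K) ≠ 0) →
      rootMultiplicity ζ (s.map fun e => cyclotomic e K).prod = s.count d := by
  intro s
  induction s using Multiset.induction_on with
  | empty => intro _; simp [← C_1, -map_one, rootMultiplicity_C]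
  | cons e s ih =>
    intro h
    rw [Multiset.map_cons, Multiset.prod_cons, rootMultiplicity_mul, rootMult_cyclotomic (h e (Multiset.mem_cons_self _ _)) hζ,
      ih fun x hx => h x (Multiset.mem_cons_of_mem hx), Multiset.count_cons]
    · by_cases he : e = d
      · simp [he, add_comm]
      · simp [he, Ne.symm he]
    · exact mul_ne_zero (cyclotomic_ne_zero e K) (Multiset.prod_ne_zero (by simp [cyclotomic_ne_zero]))

/-- The factors of the characteristic polynomial, and the bound on eigenspaces. -/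
theorem exists_factors (M : Matrix n n ℤ) {N : ℕ} (hN : 0 < N) (hM : M ^ N = 1) (K : Type*) [Field K] (hNK : (N : K) ≠ 0)
    {d : ℕ} {ζ : K} (hζ : IsPrimitiveRoot ζ d) :
    ∃ s : Multiset ℕ, (∀ e ∈ s, 0 < e) ∧ M.charpoly = (s.map fun e => cyclotomic e ℤ).prod ∧
      (s.map Nat.totient).sum = Fintype.card n ∧
      Module.finrank K ↥(Module.End.eigenspace (Matrix.toLin' (M.map (Int.castRingHom K))) ζ) ≤ s.count d := by
  obtain ⟨s, hs, hse⟩ := exists_factors_dvd M hN hM _ _ M.charpoly_monic rfl dvd_rfl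
  refine ⟨s, fun e he => Nat.pos_of_dvd_of_pos (hs e he) hN, hse, ?_, ?_⟩
  · have h := congrArg natDegree hse
    rw [M.charpoly_natDegree_eq_dim, natDegree_multiset_prod_of_monic _ (by
      intro f hf
      obtain ⟨e, -, rfl⟩ := Multiset.mem_map.1 hf
      exact cyclotomic.monic e ℤ), Multiset.map_map] at h
    rw [h]
    exact congrArg Multiset.sum (Multiset.map_congr rfl fun e _ => (natDegree_cyclotomic e ℤ).symm)
  · refine (LinearMap.finrank_eigenspace_le _ ζ).trans (le_of_eq ?_)
    rw [Matrix.charpoly_toLin', Matrix.charpoly_map, hse, Polynomial.map_multiset_prod, Multiset.map_map]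
    have : (s.map (Polynomial.map (Int.castRingHom K) ∘ fun e => cyclotomic e ℤ)) = s.map fun e => cyclotomic e K :=
      Multiset.map_congr rfl fun e _ => map_cyclotomic e _
    rw [this, rootMult_prod hζ]
    intro e he h
    obtain ⟨k, hk⟩ := hs e he
    exact hNK (by rw [hk, Nat.cast_mul, h, zero_mul])

end Cfsg.Agent.Small.SylowHom
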