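import Cfsg.Agent.Lib.Small.ChevInvol.Normal
import Cfsg.Agent.Lib.Lie.TorusCard

/-!
The integer matrices by which words in the fundamental reflections act on torus coordinates.
-/

set_option autoImplicit false
set_option linter.unusedSectionVars false

namespace Cfsg.Agent.Small.SylowHom

open Cfsg.Lie Cfsg.Agent.Lie Cfsg.Agent.Small.ChevInvol Matrix

variable {D : ChevalleyDatum}

/-- The Cartan matrix. -/
def cmat (D : ChevalleyDatum) : Matrix (Fin D.rank) (Fin D.rank) ℤ := Matrix.of (cartanSys D)

/-- The matrix of one reflection. -/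
def smat (i : Fin D.rank) : Matrix (Fin D.rank) (Fin D.rank) ℤ := 1 - Matrix.single i i 1 * cmat D

/-- The matrix of a word. -/
def wmat (ω : List (Fin D.rank)) : Matrix (Fin D.rank) (Fin D.rank) ℤ := (ω.map smat).prod

theorem wmat_cons (i : Fin D.rank) (ω : List (Fin D.rank)) : wmat (i :: ω) = smat i * wmat ω := List.prod_cons

theorem wmat_append (a b : List (Fin D.rank)) : wmat (a ++ b) = wmat a * wmat b := by
  simp [wmat, List.prod_append]

theorem smat_apply (i m t : Fin D.rank) :
    smat i m t = (if m = t then 1 else 0) - if m = i then cartanSys D i t else 0 := by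
  rw [smat, Matrix.sub_apply, Matrix.one_apply]
  congr 1
  by_cases h : m = i
  · subst h; rw [if_pos rfl, Matrix.single_mul_apply_same, one_mul]; rfl
  · rw [if_neg h, Matrix.single_mul_apply_of_ne _ _ _ _ _ h]

variable {F : Type*} [Field F]

/-- A matrix acting on torus coordinates. -/
def act (A : Matrix (Fin D.rank) (Fin D.rank) ℤ) (c : Fin D.rank → Fˣ) : Fin D.rank → Fˣ :=
  fun m => ∏ t, c t ^ A m t

theorem act_one (c : Fin D.rank → Fˣ) : act 1 c = c := by
  funext m
  rw [act, Finset.prod_eq_single m (fun t _ ht => by rw [Matrix.one_apply_ne' ht, zpow_zero])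
    (fun h => absurd (Finset.mem_univ m) h), Matrix.one_apply_eq, zpow_one]

theorem act_mul (A B : Matrix (Fin D.rank) (Fin D.rank) ℤ) (c : Fin D.rank → Fˣ) :
    act (A * B) c = act A (act B c) := by
  funext m
  have key : ∀ (t : Fin D.rank) (S : Finset (Fin D.rank)),
      c t ^ (∑ u ∈ S, A m u * B u t) = ∏ u ∈ S, (c t ^ B u t) ^ A m u := by
    intro t S
    induction S using Finset.induction_on with
    | empty => simp
    | insert a S ha ih =>
      rw [Finset.sum_insert ha, Finset.prod_insert ha, _root_.zpow_add, ih, mul_comm (A m a), _root_.zpow_mul]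
  simp only [act, Matrix.mul_apply, key, ← Finset.prod_zpow]
  exact Finset.prod_comm

theorem act_smat (i : Fin D.rank) (c : Fin D.rank → Fˣ) : act (smat i) c = reflT i c := by
  funext m
  rw [reflT, Pi.mul_apply, act]
  simp only [smat_apply, _root_.zpow_sub, Finset.prod_mul_distrib, Finset.prod_inv_distrib]
  congr 1
  · rw [Finset.prod_eq_single m (fun t _ ht => by rw [if_neg (Ne.symm ht), zpow_zero])
      (fun h => absurd (Finset.mem_univ m) h), if_pos rfl, zpow_one]
  · by_cases h : m = i
    · subst h; rw [Pi.mulSingle_eq_same]; simp only [if_true]; rfl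
    · rw [Pi.mulSingle_eq_of_ne h]; simp [h]

theorem nw_conj (hF : Facts D) (ω : List (Fin D.rank)) (c : Fin D.rank → Fˣ) :
    (hF.tsys F).nw ω * torus D F c * ((hF.tsys F).nw ω)⁻¹ = torus D F (act (wmat ω) c) := by
  induction ω with
  | nil => simp [TorusSys.nw_nil, wmat, act_one]
  | cons i ω ih =>
    rw [wmat_cons, act_mul, act_smat, ← nS_torus hF, ← ih, TorusSys.nw_cons]
    group

theorem smat_weight (i : Fin D.rank) (x : Fin D.rank → ℤ) :
    actW D i.val (List.ofFn x) = List.ofFn (x ᵥ* smat i) := by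
  refine List.ext_getElem (by simp [actW, reflW, wList]) fun k h1 h2 => ?_
  have hk : k < D.rank := by simpa using h2
  have e : (x ᵥ* smat i) ⟨k, hk⟩ = x ⟨k, hk⟩ - x i * D.cartan k (D.simple i.val) := by
    simp [Matrix.vecMul, dotProduct, smat_apply, mul_sub, Finset.sum_sub_distrib, cartanSys]
  simp [actW, reflW, wList, e, List.getD_eq_getElem?_getD]

theorem wmat_weight (Ω : List (Fin D.rank)) (x : Fin D.rank → ℤ) :
    actWord D (Ω.reverse.map Fin.val) (List.ofFn x) = List.ofFn (x ᵥ* wmat Ω) := by
  induction Ω generalizing x with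
  | nil => simp [actWord, wmat]
  | cons i Ω ih =>
    rw [List.reverse_cons, List.map_append, actWord, List.foldr_append, List.map_singleton, List.foldr_cons,
      List.foldr_nil, smat_weight, ← actWord, ih, Matrix.vecMul_vecMul, wmat_cons]

theorem pr_reverse (hF : Facts D) (Ω : List (Fin D.rank)) : hF.refSys.pr Ω.reverse = (hF.refSys.pr Ω)⁻¹ := by
  induction Ω with
  | nil => simp
  | cons i Ω ih =>
    rw [List.reverse_cons, RefSystem.pr_append, RefSystem.pr_singleton, RefSystem.pr_cons, _root_.mul_inv_rev, ih]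
    congr 1

theorem cmat_inj {k : ℕ} {d : Fin k → ℕ} (Kc : KerCert (cartanSys D) d) (hd : ∀ a, d a ≠ 0)
    {c : Fin D.rank → ℤ} (hc : cmat D *ᵥ c = 0) : c = 0 := by
  have h0 : ∀ s, ∑ m, cartanSys D s m • c m = 0 := fun s => by
    simpa [cmat, Matrix.mulVec, dotProduct] using congrFun hc s
  let z : {c : Fin D.rank → ℤ // ∀ s, ∑ m, cartanSys D s m • c m = 0} := ⟨c, h0⟩
  have h1 : Kc.equiv (M := ℤ) z = Kc.equiv (M := ℤ) ⟨0, fun s => by simp⟩ := by
    funext a
    refine Subtype.ext ?_
    have hz : ∀ w : {w : ℤ // d a • w = 0}, w.1 = 0 := fun w => by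
      have := w.2
      rw [nsmul_eq_mul, mul_eq_zero] at this
      exact this.resolve_left (by exact_mod_cast hd a)
    rw [hz, hz]
  exact congrArg Subtype.val (Kc.equiv.injective h1)

/-- The matrix of a word has finite order. -/
theorem wmat_pow (hF : Facts D) {k : ℕ} {d : Fin k → ℕ} (Kc : KerCert (cartanSys D) d) (hd : ∀ a, d a ≠ 0)
    (ω : List (Fin D.rank)) : wmat ω ^ Nat.card hF.weyl = 1 := by
  set N := Nat.card hF.weyl with hN
  have hflat : ∀ j, wmat (List.replicate j ω).flatten = wmat ω ^ j ∧
      hF.refSys.pr (List.replicate j ω).flatten = hF.refSys.pr ω ^ j := by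
    intro j
    induction j with
    | zero => simp [wmat]
    | succ j ih =>
      rw [List.replicate_succ, List.flatten_cons, wmat_append, ih.1, RefSystem.pr_append, ih.2, pow_succ', pow_succ']
      exact ⟨rfl, rfl⟩
  set Ω := (List.replicate N ω).flatten with hΩ
  have hpr : hF.refSys.pr Ω.reverse = 1 := by rw [pr_reverse, (hflat N).2, hN, pow_card_eq_one', inv_one]
  have hrow : ∀ m : Fin D.rank, (cmat D m) ᵥ* wmat Ω = cmat D m := by
    intro m
    have hm : wList D (D.simple m.val) = List.ofFn (cmat D m) := by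
      refine List.ext_getElem (by simp [wList]) fun j h1 h2 => ?_
      simp [wList, cmat, cartanSys]
    have h := hF.wList_pr Ω.reverse ⟨D.simple m.val, hF.simple_lt m m.isLt⟩
    rw [hpr, one_smul, hm, wmat_weight] at h
    exact (List.ofFn_injective h).symm
  have hC : cmat D * wmat Ω = cmat D := Matrix.ext fun m t => by
    rw [Matrix.mul_apply]
    exact congrFun (hrow m) t
  rw [← (hflat N).1]
  refine Matrix.ext fun s t => ?_
  have h0 : cmat D *ᵥ (fun u => (wmat Ω - 1) u t) = 0 := funext fun m => by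
    show (cmat D * (wmat Ω - 1)) m t = 0
    rw [mul_sub, hC, mul_one, sub_self, Matrix.zero_apply]
  exact sub_eq_zero.1 (congrFun (cmat_inj Kc hd h0) s)

theorem wmat_fix (p : ℤ) (e : Fin D.rank → ℤ) (he : ∀ i, p ∣ (cmat D *ᵥ e) i) (ω : List (Fin D.rank)) :
    ∀ j, p ∣ (wmat ω *ᵥ e) j - e j := by
  induction ω with
  | nil => intro j; simp [wmat]
  | cons i ω ih =>
    intro j
    rw [wmat_cons, ← Matrix.mulVec_mulVec]
    have h1 : (smat i *ᵥ (wmat ω *ᵥ e)) j = (wmat ω *ᵥ e) j -
        if j = i then (cmat D *ᵥ (wmat ω *ᵥ e)) i else 0 := by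
      simp only [Matrix.mulVec, dotProduct, smat_apply, sub_mul, Finset.sum_sub_distrib, ite_mul, one_mul, zero_mul,
        Finset.sum_ite_eq, Finset.mem_univ, if_true]
      congr 1
      by_cases h : j = i <;> simp [h, cmat]
    rw [h1, sub_right_comm]
    refine dvd_sub (ih j) ?_
    split_ifs
    · have h2 : p ∣ (cmat D *ᵥ (wmat ω *ᵥ e)) i - (cmat D *ᵥ e) i := by
        rw [← Pi.sub_apply, ← Matrix.mulVec_sub]
        show p ∣ ∑ u, cmat D i u * ((wmat ω *ᵥ e) u - e u)
        exact Finset.dvd_sum fun u _ => (ih u).mul_left _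
      exact (dvd_sub_left (he i)).1 h2
    · exact dvd_zero p

theorem wmat_form (hsym : (cmat D)ᵀ = cmat D) (h2 : ∀ i, cmat D i i = 2) (ω : List (Fin D.rank)) :
    (wmat ω)ᵀ * cmat D * wmat ω = cmat D := by
  induction ω with
  | nil => simp [wmat]
  | cons i ω ih =>
    have hE : Matrix.single i i (1 : ℤ) * cmat D * Matrix.single i i 1 = 2 • Matrix.single i i 1 := by
      ext a b
      by_cases ha : a = i
      · by_cases hb : b = i
        · subst ha hb; simp [h2]
        · subst ha; simp [Ne.symm hb, Matrix.mul_single_apply_of_ne _ _ _ _ _ hb]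
      · simp [Matrix.mul_assoc, Matrix.single_mul_apply_of_ne _ _ _ _ _ ha, Ne.symm ha]
    have hs : (smat i)ᵀ * cmat D * smat i = cmat D := by
      rw [smat, Matrix.transpose_sub, Matrix.transpose_one, Matrix.transpose_mul, Matrix.transpose_single, hsym]
      have e : cmat D * Matrix.single i i 1 * cmat D * Matrix.single i i 1 * cmat D =
          2 • (cmat D * Matrix.single i i 1 * cmat D) := by
        calc cmat D * Matrix.single i i 1 * cmat D * Matrix.single i i 1 * cmat D
            = cmat D * (Matrix.single i i 1 * cmat D * Matrix.single i i 1) * cmat D := by simp only [Matrix.mul_assoc]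
          _ = _ := by rw [hE, Matrix.mul_smul, Matrix.smul_mul]
      simp only [sub_mul, mul_sub, one_mul, mul_one, ← Matrix.mul_assoc, e]
      abel
    rw [wmat_cons, Matrix.transpose_mul]
    calc (wmat ω)ᵀ * (smat i)ᵀ * cmat D * (smat i * wmat ω) = (wmat ω)ᵀ * ((smat i)ᵀ * cmat D * smat i) * wmat ω := by
          simp only [Matrix.mul_assoc]
      _ = cmat D := by rw [hs, ih]

end Cfsg.Agent.Small.SylowHom
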